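import Mathlib
import Cfsg.Prelude.Def_KGroupFacts

/-!
# Small lemmas on central kernels
-/

set_option autoImplicit false
set_option linter.unusedSectionVars false

namespace Cfsg.Agent.M22Mult

open scoped commutatorElement

/-- In a stem extension every element of prime power order of the kernel lies in the derived group of a
Sylow subgroup. -/
theorem mem_derived_sylow {Γ H : Type*} [Group Γ] [Finite Γ] [Group H] {σ : Γ →* H}
    (hc : σ.ker ≤ Subgroup.center Γ) (hd : σ.ker ≤ commutator Γ) {p : ℕ} [Fact p.Prime]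
    (P : Sylow p Γ) {z : Γ} (hz : z ∈ σ.ker) {k : ℕ} (hpow : z ^ p ^ k = 1) :
    z ∈ ⁅(P : Subgroup Γ), (P : Subgroup Γ)⁆ ⊓ σ.ker := by
  refine Subgroup.mem_inf.2 ⟨?_, hz⟩
  have hcen : ∀ y, y * z = z * y := Subgroup.mem_center_iff.1 (hc hz)
  set φ : (P : Subgroup Γ) →* Abelianization (P : Subgroup Γ) := Abelianization.of with hφ
  have key : ∀ (k : ℕ) (g₀ : Γ), g₀⁻¹ * z ^ k * g₀ ∈ (P : Subgroup Γ) →
      g₀⁻¹ * z ^ k * g₀ = z ^ k := fun k g₀ _ => by
    rw [mul_assoc, ← ((show Commute g₀ z from hcen g₀).pow_right k).eq, inv_mul_cancel_left]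
  have h1 : MonoidHom.transfer φ z = 1 := Abelianization.commutator_subset_ker _ (hd hz)
  rw [MonoidHom.transfer_eq_pow φ z key, hφ] at h1
  have h2 : (⟨z ^ (P : Subgroup Γ).index, MonoidHom.transfer_eq_pow_aux z key⟩ :
      (P : Subgroup Γ)) ∈ commutator (P : Subgroup Γ) := (QuotientGroup.eq_one_iff _).1 h1
  have h3 : z ^ (P : Subgroup Γ).index ∈ ⁅(P : Subgroup Γ), (P : Subgroup Γ)⁆ := by
    rw [← Subgroup.map_subtype_commutator (P : Subgroup Γ)]
    exact ⟨_, h2, rfl⟩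
  have hco : ((P : Subgroup Γ).index).Coprime (p ^ k) :=
    (Nat.Coprime.pow_right k ((Nat.Prime.coprime_iff_not_dvd Fact.out).2 P.not_dvd_index).symm)
  obtain ⟨u, v, huv⟩ := (Int.isCoprime_iff_nat_coprime.2 hco :
    IsCoprime (((P : Subgroup Γ).index : ℕ) : ℤ) ((p ^ k : ℕ) : ℤ))
  have e : z = (z ^ (P : Subgroup Γ).index) ^ u := by
    rw [← zpow_natCast, ← zpow_mul]
    conv_lhs => rw [← zpow_one z, ← huv, zpow_add]
    rw [mul_comm v, zpow_mul z ((p ^ k : ℕ) : ℤ), zpow_natCast, hpow, one_zpow, mul_one, mul_comm]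
  rw [e]
  exact Subgroup.zpow_mem _ h3 u

/-- A finite abelian group whose order has no prime factor above three, whose 3-elements lie in a group of
order dividing three and whose 2-elements are generated modulo eighth powers by an element with fourth
power an eighth power, is an image of the cyclic group of order twelve. -/
theorem image_twelve {K : Type*} [CommGroup K] [Finite K]
    (hbig : ∀ p : ℕ, p.Prime → p ∣ Nat.card K → p = 2 ∨ p = 3)
    {c : K} (hc : c ^ 3 = 1) (h3 : ∀ x : K, ∀ m : ℕ, x ^ 3 ^ m = 1 → x ∈ Subgroup.zpowers c)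
    {k : K} (hk : ∃ y : K, k ^ 4 = y ^ 8)
    (h2 : ∀ x : K, ∀ m : ℕ, x ^ 2 ^ m = 1 → ∃ (i : ℤ) (y : K), x = k ^ i * y ^ 8) :
    ∃ π : Multiplicative (ZMod 12) →* K, Function.Surjective π := by
  obtain ⟨a, M, hM, hn⟩ := Nat.exists_eq_two_pow_mul_odd (Nat.card_pos (α := K)).ne'
  -- the odd part of the order is a power of three
  obtain ⟨b, rfl⟩ : ∃ b, M = 3 ^ b := by
    have hM0 : M ≠ 0 := by rcases hM with ⟨j, rfl⟩; omega
    refine ⟨M.primeFactorsList.length, Nat.eq_prime_pow_of_unique_prime_dvd hM0 fun {q} hq hqM => ?_⟩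
    rcases hbig q hq (hn ▸ hqM.mul_left _) with rfl | rfl
    · exact absurd hqM (fun h => by rcases hM with ⟨j, rfl⟩; omega)
    · rfl
  have hcard : ∀ z : K, z ^ (2 ^ a * 3 ^ b) = 1 := fun z => hn ▸ pow_card_eq_one'
  set S : K → Prop := fun x => x ^ 2 ^ a = 1 with hS
  obtain ⟨u, v, huv⟩ := (Int.isCoprime_iff_nat_coprime.2
    (Nat.Coprime.pow a b (by norm_num : Nat.Coprime 2 3)) : IsCoprime ((2 ^ a : ℕ) : ℤ) ((3 ^ b : ℕ) : ℤ))
  -- the projection to the two-part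
  let pr : K →* K := zpowGroupHom (v * (3 ^ b : ℕ))
  have hprS : ∀ z, (pr z) ^ 2 ^ a = 1 := fun z => by
    show (z ^ (v * ((3 ^ b : ℕ) : ℤ))) ^ 2 ^ a = 1
    rw [← zpow_natCast, ← zpow_mul, show v * ((3 ^ b : ℕ) : ℤ) * ((2 ^ a : ℕ) : ℤ) =
      ((2 ^ a * 3 ^ b : ℕ) : ℤ) * v by push_cast; ring, zpow_mul, zpow_natCast, hcard, one_zpow]
  have hpr : ∀ x, x ^ 2 ^ a = 1 → pr x = x := fun x hx => by
    show x ^ (v * ((3 ^ b : ℕ) : ℤ)) = x
    rw [show v * ((3 ^ b : ℕ) : ℤ) = 1 - ((2 ^ a : ℕ) : ℤ) * u by linarith, zpow_sub, zpow_one, zpow_mul,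
      zpow_natCast, hx, one_zpow, inv_one, mul_one]
  set k₂ := pr k
  have h2' : ∀ x, x ^ 2 ^ a = 1 → ∃ (i : ℤ) (y : K), y ^ 2 ^ a = 1 ∧ x = k₂ ^ i * y ^ 8 := by
    intro x hx
    obtain ⟨i, y, e⟩ := h2 x a hx
    exact ⟨i, pr y, hprS y, by rw [← hpr x hx, e, map_mul, map_zpow, map_pow]⟩
  obtain ⟨y₀, hy₀⟩ := hk
  have hk4 : k₂ ^ 4 = pr y₀ ^ 8 := by rw [← map_pow, ← map_pow, hy₀]
  have hfour : ∀ x : K, x ^ 2 ^ a = 1 → x ^ 4 = 1 := by
    have step : ∀ t : ℕ, ∀ x : K, x ^ 2 ^ a = 1 → ∃ w, w ^ 2 ^ a = 1 ∧ x ^ 4 = w ^ (4 * 2 ^ t) := by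
      intro t
      induction t with
      | zero => exact fun x hx => ⟨x, hx, by norm_num⟩
      | succ t ih =>
        intro x hx
        obtain ⟨i, y, hy, e⟩ := h2' x hx
        obtain ⟨w, hw, ew⟩ := ih (pr y₀ ^ i * y ^ 4) (by
          rw [mul_pow, ← zpow_natCast, zpow_comm, zpow_natCast, hprS, one_zpow, one_mul, ← pow_mul,
            mul_comm, pow_mul, hy, one_pow])
        refine ⟨w, hw, ?_⟩
        have : x ^ 4 = ((pr y₀ ^ i * y ^ 4) ^ 4) ^ 2 := by
          rw [e, mul_pow, ← zpow_natCast (k₂ ^ i), zpow_comm, zpow_natCast, hk4, mul_pow, mul_pow,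
            ← pow_mul, ← pow_mul, ← pow_mul, ← zpow_natCast (pr y₀ ^ i), zpow_comm, zpow_natCast]
          norm_num [← pow_mul]
        rw [this, ew, ← pow_mul]
        ring_nf
    intro x hx
    obtain ⟨w, hw, e⟩ := step a x hx
    rw [e, mul_comm, pow_mul, hw, one_pow]
  have hk2 : k₂ ^ 4 = 1 := hfour _ (hprS k)
  set g := k₂ * c
  have hgk : k₂ = g ^ 9 := by
    rw [mul_pow, show (9 : ℕ) = 4 * 2 + 1 from rfl, pow_succ, pow_mul, hk2, one_pow, one_mul,
      show 4 * 2 + 1 = 3 * 3 from rfl, pow_mul, hc, one_pow, mul_one]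
  have hgc : c = g ^ 4 := by
    rw [mul_pow, hk2, one_mul, show (4 : ℕ) = 3 + 1 from rfl, pow_succ, hc, one_mul]
  have hgen : ∀ z : K, z ∈ Subgroup.zpowers g := by
    intro z
    have e : z = (z ^ (2 ^ a : ℕ)) ^ u * pr z := by
      show z = _ * z ^ (v * ((3 ^ b : ℕ) : ℤ))
      rw [← zpow_natCast z (2 ^ a), ← zpow_mul, ← zpow_add,
        show ((2 ^ a : ℕ) : ℤ) * u + v * ((3 ^ b : ℕ) : ℤ) = 1 by linarith, zpow_one]
    rw [e]
    refine mul_mem (Subgroup.zpow_mem _ ?_ u) ?_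
    · have h := h3 (z ^ (2 ^ a : ℕ)) b (by rw [← pow_mul, hcard])
      refine (Subgroup.zpowers_le.2 ?_) h
      rw [hgc]
      exact Subgroup.npow_mem_zpowers _ _
    · obtain ⟨i, y, hy, e⟩ := h2' _ (hprS z)
      rw [e, show (8 : ℕ) = 4 * 2 from rfl, pow_mul, hfour y hy, one_pow, mul_one, hgk]
      exact Subgroup.zpow_mem _ (Subgroup.npow_mem_zpowers _ _) i
  have hg12 : g ^ (12 : ℕ) = 1 := by
    rw [mul_pow, show (12 : ℕ) = 4 * 3 from rfl, pow_mul, hk2, one_pow, one_mul,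
      show 4 * 3 = 3 * 4 from rfl, pow_mul, hc, one_pow]
  refine ⟨AddMonoidHom.toMultiplicativeLeft
    (ZMod.lift 12 ⟨(zmultiplesHom (Additive K)) (Additive.ofMul g), ?_⟩), fun z => ?_⟩
  · simp only [zmultiplesHom_apply, ← ofMul_zpow]
    exact congrArg Additive.ofMul (by exact_mod_cast hg12)
  · obtain ⟨i, rfl⟩ := Subgroup.mem_zpowers_iff.1 (hgen z)
    exact ⟨Multiplicative.ofAdd (i : ZMod 12), by simp⟩

/-- Two stem extensions of a perfect group with coprime cyclic kernels give one with the product. -/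
theorem fibre_product {G : Type} [Group G] (hperf : commutator G = ⊤) {m n : ℕ} (hco : m.Coprime n)
    [NeZero m] [NeZero n]
    {X : Type} [Group X] [Finite X] {σ : X →* G} (hσ : Cfsg.IsStemExtension σ)
    (eX : σ.ker ≃* Multiplicative (ZMod m))
    {Y : Type} [Group Y] [Finite Y] {τ : Y →* G} (hτ : Cfsg.IsStemExtension τ)
    (eY : τ.ker ≃* Multiplicative (ZMod n)) :
    ∃ (Γ : Type) (_ : Group Γ) (_ : Finite Γ) (ρ : Γ →* G),
      Cfsg.IsStemExtension ρ ∧ Nonempty (ρ.ker ≃* Multiplicative (ZMod (m * n))) := by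
  obtain ⟨hσs, hσc, hσd⟩ := hσ
  obtain ⟨hτs, hτc, hτd⟩ := hτ
  have perfect : ∀ {Z : Type} [Group Z] (φ : Z →* G), Function.Surjective φ → φ.ker ≤ commutator Z →
      commutator Z = ⊤ := by
    intro Z _ φ hs hd
    have h1 : (commutator Z).map φ = ⊤ := by
      rw [commutator_def, Subgroup.map_commutator, Subgroup.map_top_of_surjective φ hs, ← commutator_def,
        hperf]
    rw [eq_top_iff]
    intro z _
    obtain ⟨w, hw, e⟩ := (h1.ge (Subgroup.mem_top (φ z)) : φ z ∈ _)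
    have : w⁻¹ * z ∈ commutator Z := hd (by rw [MonoidHom.mem_ker, map_mul, map_inv, e, inv_mul_cancel])
    simpa using mul_mem hw this
  let P : Subgroup (X × Y) :=
    { carrier := {p | σ p.1 = τ p.2}
      one_mem' := by simp
      mul_mem' := fun {a b} ha hb => by
        simp only [Set.mem_setOf_eq, Prod.fst_mul, Prod.snd_mul, map_mul] at *
        rw [ha, hb]
      inv_mem' := fun {a} ha => by
        simp only [Set.mem_setOf_eq, Prod.fst_inv, Prod.snd_inv, map_inv] at *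
        rw [ha] }
  let π₁ : P →* X := (MonoidHom.fst X Y).comp P.subtype
  let π₂ : P →* Y := (MonoidHom.snd X Y).comp P.subtype
  have hπ₁ : Function.Surjective π₁ := fun x => by
    obtain ⟨y, hy⟩ := hτs (σ x)
    exact ⟨⟨(x, y), hy.symm⟩, rfl⟩
  have hπ₂ : Function.Surjective π₂ := fun y => by
    obtain ⟨x, hx⟩ := hσs (τ y)
    exact ⟨⟨(x, y), hx⟩, rfl⟩
  let ρ : P →* G := σ.comp π₁
  have h2 : ∀ p : P, τ (π₂ p) = ρ p := fun p => p.2.symm
  have hXm : ∀ x ∈ σ.ker, x ^ m = 1 := fun x hx => by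
    have := pow_card_eq_one' (G := σ.ker) (x := ⟨x, hx⟩)
    rw [Nat.card_congr eX.toEquiv, Nat.card_congr Multiplicative.toAdd, Nat.card_zmod] at this
    exact congrArg Subtype.val this
  have hYn : ∀ y ∈ τ.ker, y ^ n = 1 := fun y hy => by
    have := pow_card_eq_one' (G := τ.ker) (x := ⟨y, hy⟩)
    rw [Nat.card_congr eY.toEquiv, Nat.card_congr Multiplicative.toAdd, Nat.card_zmod] at this
    exact congrArg Subtype.val this
  have lift₁ : ∀ x : X, ∃ q ∈ commutator P, π₁ q = x := fun x => by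
    have hx := Subgroup.mem_top x
    rw [← perfect σ hσs hσd, commutator_def, ← Subgroup.map_top_of_surjective π₁ hπ₁,
      ← Subgroup.map_commutator, ← commutator_def] at hx
    exact hx
  have lift₂ : ∀ y : Y, ∃ q ∈ commutator P, π₂ q = y := fun y => by
    have hy := Subgroup.mem_top y
    rw [← perfect τ hτs hτd, commutator_def, ← Subgroup.map_top_of_surjective π₂ hπ₂,
      ← Subgroup.map_commutator, ← commutator_def] at hy
    exact hy
  obtain ⟨u, v, huv⟩ := (Int.isCoprime_iff_nat_coprime.2 hco : IsCoprime (m : ℤ) (n : ℤ))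
  have hzp : ∀ {Z : Type} [Group Z] {z : Z} {l : ℕ}, z ^ l = 1 → ∀ t : ℤ, z ^ (t * (l : ℤ)) = 1 :=
    fun {Z _ z l} hz t => by rw [mul_comm, zpow_mul, zpow_natCast, hz, one_zpow]
  have hone : ∀ {Z : Type} [Group Z] {z : Z}, z ^ m = 1 → z ^ (v * (n : ℤ)) = z := fun {Z _ z} hz => by
    rw [show v * (n : ℤ) = 1 - u * m by linarith, zpow_sub, zpow_one, hzp hz, inv_one, mul_one]
  have hone' : ∀ {Z : Type} [Group Z] {z : Z}, z ^ n = 1 → z ^ (u * (m : ℤ)) = z := fun {Z _ z} hz => by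
    rw [show u * (m : ℤ) = 1 - v * n by linarith, zpow_sub, zpow_one, hzp hz, inv_one, mul_one]
  have hstem : ρ.ker ≤ commutator P := by
    intro p hp
    have hp1 : π₁ p ∈ σ.ker := hp
    have hp2 : π₂ p ∈ τ.ker := by rw [MonoidHom.mem_ker, h2]; exact hp
    obtain ⟨q, hq, hq1⟩ := lift₁ (π₁ p)
    obtain ⟨r, hr, hr2⟩ := lift₂ (π₂ p)
    have hq2 : π₂ q ∈ τ.ker := by
      rw [MonoidHom.mem_ker, h2]; show σ (π₁ q) = 1; rw [hq1]; exact hp1
    have hr1 : π₁ r ∈ σ.ker := by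
      rw [MonoidHom.mem_ker]; show ρ r = 1; rw [← h2, hr2]; exact hp2
    have e : p = q ^ (v * (n : ℤ)) * r ^ (u * (m : ℤ)) := by
      refine Subtype.ext (Prod.ext ?_ ?_)
      · show π₁ p = π₁ (_ * _)
        rw [map_mul, map_zpow, map_zpow, hq1, hone (hXm _ hp1), hzp (hXm _ hr1), mul_one]
      · show π₂ p = π₂ (_ * _)
        rw [map_mul, map_zpow, map_zpow, hr2, hone' (hYn _ hp2), hzp (hYn _ hq2), one_mul]
    rw [e]
    exact mul_mem (Subgroup.zpow_mem _ hq _) (Subgroup.zpow_mem _ hr _)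
  have hcen : ρ.ker ≤ Subgroup.center P := fun p hp => Subgroup.mem_center_iff.2 fun g =>
    Subtype.ext (Prod.ext (Subgroup.mem_center_iff.1 (hσc (show π₁ p ∈ σ.ker from hp)) g.1.1)
      (Subgroup.mem_center_iff.1 (hτc (show π₂ p ∈ τ.ker by rw [MonoidHom.mem_ker, h2]; exact hp)) g.1.2))
  let e : ρ.ker ≃* σ.ker × τ.ker :=
    { toFun := fun p => (⟨π₁ p.1, p.2⟩, ⟨π₂ p.1, by rw [MonoidHom.mem_ker, h2]; exact p.2⟩)
      invFun := fun q => ⟨⟨((q.1 : X), (q.2 : Y)), q.1.2.trans q.2.2.symm⟩, q.1.2⟩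
      left_inv := fun _ => rfl
      right_inv := fun _ => rfl
      map_mul' := fun _ _ => rfl }
  exact ⟨P, inferInstance, inferInstance, ρ, ⟨hσs.comp hπ₁, hcen, hstem⟩,
    ⟨(e.trans (eX.prodCongr eY)).trans ((MulEquiv.prodMultiplicative (ZMod m) (ZMod n)).symm.trans
      (AddEquiv.toMultiplicative (ZMod.chineseRemainder hco).symm.toAddEquiv))⟩⟩

end Cfsg.Agent.M22Mult
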