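import Mathlib
import Cfsg.Prelude.Def_KGroupFacts
import Cfsg.Agent.Lib.Suzuki.Eight.Corestriction

/-!
# A stem extension from a cocycle of a subgroup given by tables

A cocycle of a subgroup is given by a table, transferred to the group with coset representatives
given by a table, and the commutator of the lifts of two commuting elements of the subgroup is read
off as a sum over the cosets.
-/

set_option autoImplicit false
set_option linter.unusedSectionVars false

namespace Cfsg.Agent.M22Mult

open Cfsg.Agent.Suzuki.Eight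
open scoped commutatorElement

/-- A group table of a subgroup, a cocycle on it, representatives of its cosets and the action of two
of its elements on them. -/
structure CoverData (G : Type) [Group G] (A : Type) [AddCommGroup A] where
  N : ℕ
  m : ℕ
  hN : 0 < N
  el : Fin N → G
  M : Fin N → Fin N → Fin N
  F : Fin N → Fin N → A
  R : Fin m → G
  a : Fin N
  b : Fin N
  ja : Fin m → Fin m
  ka : Fin m → Fin N
  jb : Fin m → Fin m
  kb : Fin m → Fin N

/-- The defect of associativity. -/
def CoverData.delta {G : Type} [Group G] {A : Type} [AddCommGroup A] (D : CoverData G A)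
    (g h k : Fin D.N) : A :=
  D.F g h + D.F (D.M g h) k - D.F h k - D.F g (D.M h k)

variable {G : Type} [Group G] [Finite G] {A : Type} [AddCommGroup A] [Finite A]

/-- The extension. -/
theorem exists_stem (D : CoverData G A) (hperf : commutator G = ⊤)
    (hM : ∀ u v, D.el u * D.el v = D.el (D.M u v)) (hinj : Function.Injective D.el)
    (hone : D.el ⟨0, D.hN⟩ = 1)
    (hF0 : ∀ u, D.F ⟨0, D.hN⟩ u = 0 ∧ D.F u ⟨0, D.hN⟩ = 0)
    (gens : List (Fin D.N)) (hgens : ∀ g ∈ gens, ∀ h k, D.delta g h k = 0)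
    (hdec : ∀ u : Fin D.N, u.1 = 0 ∨ ∃ g ∈ gens, ∃ w : Fin D.N, w < u ∧ D.M g w = u)
    (hcard : Nat.card G = D.N * D.m)
    {κ : Type} (key : G → κ) (hkey : ∀ g u, key (g * D.el u) = key g)
    (hkinj : Function.Injective fun i => key (D.R i))
    (hja : ∀ i, D.el D.a * D.R i = D.R (D.ja i) * D.el (D.ka i))
    (hjb : ∀ i, D.el D.b * D.R i = D.R (D.jb i) * D.el (D.kb i))
    (hab : D.M D.a D.b = D.M D.b D.a)
    {z : A} (hz : z = ∑ i, (D.F (D.ka (D.jb i)) (D.kb i) - D.F (D.kb (D.ja i)) (D.ka i)))
    (hgen : AddSubgroup.zmultiples z = ⊤) :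
    ∃ (X : Type) (_ : Group X) (_ : Finite X) (σ : X →* G),
      Cfsg.IsStemExtension σ ∧ Nonempty (σ.ker ≃* Multiplicative A) := by
  classical
  have hN := D.hN
  -- the subgroup
  let S : Submonoid G :=
    { carrier := Set.range D.el
      one_mem' := ⟨_, hone⟩
      mul_mem' := by
        rintro _ _ ⟨u, rfl⟩ ⟨v, rfl⟩
        exact ⟨_, (hM u v).symm⟩ }
  let U : Subgroup G :=
    { S with
      inv_mem' := by
        intro x hx
        have h : x ^ (orderOf x - 1) ∈ S := S.pow_mem hx _
        rwa [show x⁻¹ = x ^ (orderOf x - 1) from inv_eq_of_mul_eq_one_right (by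
          rw [← pow_succ', Nat.sub_add_cancel (orderOf_pos x), pow_orderOf_eq_one])] }
  let e : Fin D.N ≃ U := Equiv.ofBijective (fun u => (⟨D.el u, u, rfl⟩ : U))
    ⟨fun u v h => hinj (congrArg Subtype.val h), fun x => x.2.elim fun u hu => ⟨u, Subtype.ext hu⟩⟩
  have he : ∀ u, ((e u : U) : G) = D.el u := fun _ => rfl
  have hes : ∀ (x : U) u, (x : G) = D.el u → e.symm x = u := fun x u h =>
    (Equiv.symm_apply_eq e).2 (Subtype.ext (by rw [he, h]))
  -- associativity
  have hMa : ∀ u v w, D.M (D.M u v) w = D.M u (D.M v w) := fun u v w => hinj (by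
    rw [← hM, ← hM, ← hM, ← hM, mul_assoc])
  have hall : ∀ u h k, D.delta u h k = 0 := by
    intro u
    induction u using WellFoundedLT.induction with
    | _ u ih =>
      intro h k
      rcases hdec u with h0 | ⟨g, hg, w, hw, rfl⟩
      · have hu : u = ⟨0, hN⟩ := Fin.ext h0
        have h1 : ∀ v, D.M ⟨0, hN⟩ v = v := fun v => hinj (by rw [← hM, hone, one_mul])
        subst hu
        simp [CoverData.delta, (hF0 _).1, h1]
      · have e1 := ih w hw h k
        have e2 := hgens g hg (D.M w h) k
        have e3 := hgens g hg w (D.M h k)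
        have e4 := hgens g hg w h
        simp only [CoverData.delta] at e1 e2 e3 e4 ⊢
        simp only [hMa] at e1 e2 e3 e4 ⊢
        calc _ = (D.F w h + D.F (D.M w h) k - D.F h k - D.F w (D.M h k)) +
              (D.F g (D.M w h) + D.F (D.M g (D.M w h)) k - D.F (D.M w h) k - D.F g (D.M w (D.M h k))) +
              (D.F g w + D.F (D.M g w) h - D.F w h - D.F g (D.M w h)) -
              (D.F g w + D.F (D.M g w) (D.M h k) - D.F w (D.M h k) - D.F g (D.M w (D.M h k))) := by abel
          _ = 0 := by rw [e1, e2, e3, e4]; abel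
  let f : Cocycle U A :=
    { toFun := fun x y => D.F (e.symm x) (e.symm y)
      one_left := fun y => by rw [hes 1 _ hone.symm]; exact (hF0 _).1
      one_right := fun y => by rw [hes 1 _ hone.symm]; exact (hF0 _).2
      assoc := fun x y w => by
        have hm : ∀ s t : U, e.symm (s * t) = D.M (e.symm s) (e.symm t) := fun s t =>
          hes _ _ (by rw [Subgroup.coe_mul, ← hM, ← he, ← he, e.apply_symm_apply, e.apply_symm_apply])
        rw [hm, hm]
        have h := hall (e.symm x) (e.symm y) (e.symm w)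
        simp only [CoverData.delta, sub_sub, sub_eq_zero] at h
        exact h }
  -- the cosets
  haveI : Fintype (G ⧸ U) := Fintype.ofFinite _
  have hkU : ∀ g g' : G, (g : G ⧸ U) = g' → key g = key g' := by
    intro g g' h
    obtain ⟨u, hu⟩ := QuotientGroup.eq.1 h
    rw [← hkey g u, hu, mul_inv_cancel_left]
  have hcN : Nat.card U = D.N := by rw [← Nat.card_congr e, Nat.card_fin]
  have hidx : Nat.card (G ⧸ U) = D.m := by
    have h := U.card_eq_card_quotient_mul_card_subgroup
    rw [hcard, hcN, mul_comm] at h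
    exact (Nat.eq_of_mul_eq_mul_right hN h).symm
  let q : Fin D.m ≃ G ⧸ U := Equiv.ofBijective (fun i => (D.R i : G ⧸ U)) (by
    rw [Nat.bijective_iff_injective_and_card]
    exact ⟨fun i j h => hkinj (hkU _ _ h), by rw [hidx, Nat.card_fin]⟩)
  let r : G ⧸ U → G := fun x => D.R (q.symm x)
  have hr : ∀ x, (r x : G ⧸ U) = x := fun x => q.apply_symm_apply x
  have hq : ∀ (x : Fin D.N) (jx : Fin D.m → Fin D.m) (kx : Fin D.m → Fin D.N),
      (∀ i, D.el x * D.R i = D.R (jx i) * D.el (kx i)) →
      ∀ i, D.el x • q i = q (jx i) ∧ e.symm (comp U r hr (D.el x) (q i)) = kx i := by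
    intro x jx kx hx i
    have h1 : D.el x • q i = q (jx i) := by
      show ((D.el x * D.R i : G) : G ⧸ U) = _
      rw [hx, QuotientGroup.mk_mul_of_mem _ (show D.el (kx i) ∈ U from ⟨_, rfl⟩)]
      rfl
    refine ⟨h1, hes _ _ ?_⟩
    show (r (D.el x • q i))⁻¹ * (D.el x * r (q i)) = _
    rw [h1]
    show (D.R (q.symm (q _)))⁻¹ * (D.el x * D.R (q.symm (q i))) = _
    rw [q.symm_apply_apply, q.symm_apply_apply, hx, inv_mul_cancel_left]
  -- the extension
  set c := cores U f r hr with hc
  have hcc := ker_le_center c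
  have hcomm : D.el D.a * D.el D.b = D.el D.b * D.el D.a := by rw [hM, hM, hab]
  have hval : c.toFun (D.el D.a) (D.el D.b) - c.toFun (D.el D.b) (D.el D.a) = z := by
    show ∑ x, _ - ∑ x, _ = _
    rw [← Finset.sum_sub_distrib, ← Equiv.sum_comp q, hz]
    refine Finset.sum_congr rfl fun i _ => ?_
    obtain ⟨a1, a2⟩ := hq _ _ _ hja i
    obtain ⟨b1, b2⟩ := hq _ _ _ hjb i
    show D.F (e.symm _) (e.symm _) - D.F (e.symm _) (e.symm _) = _
    rw [b1, (hq _ _ _ hja (D.jb i)).2, b2, a1, (hq _ _ _ hjb (D.ja i)).2, a2]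
  set E' := commutator (Ext c)
  have hmap : E'.map (proj c) = ⊤ := by
    rw [show E' = ⁅(⊤ : Subgroup (Ext c)), ⊤⁆ from commutator_def _, Subgroup.map_commutator,
      Subgroup.map_top_of_surjective _ (proj_surjective c), ← commutator_def, hperf]
  let K : AddSubgroup A :=
    { carrier := {t | (⟨t, 1⟩ : Ext c) ∈ E'}
      zero_mem' := by show (1 : Ext c) ∈ E'; exact one_mem _
      add_mem' := fun {s t} hs ht => by
        have := E'.mul_mem hs ht
        simpa [Ext.mul_def, c.one_left] using this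
      neg_mem' := fun {s} hs => by
        have := E'.inv_mem hs
        simpa [Ext.inv_def, c.one_left, c.one_right] using this }
  have hK : ∀ t, (⟨t, 1⟩ : Ext c) ∈ E' := by
    intro t
    have hzK : z ∈ K := by
      show (⟨z, 1⟩ : Ext c) ∈ E'
      rw [← hval, ← commutator_lift c hcomm,
        show ∀ s t : Ext c, s * t * (t * s)⁻¹ = ⁅s, t⁆ from fun s t => by
          rw [commutatorElement_def]; group]
      exact Subgroup.commutator_mem_commutator (Subgroup.mem_top _) (Subgroup.mem_top _)
    have : t ∈ K := (AddSubgroup.zmultiples_le.2 hzK) (hgen ▸ AddSubgroup.mem_top t)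
    exact this
  let σ : E' →* G := (proj c).comp E'.subtype
  have hker : ∀ x : E', x ∈ σ.ker ↔ (x : Ext c) ∈ (proj c).ker := fun _ => Iff.rfl
  refine ⟨E', inferInstance, inferInstance, σ, ⟨fun g => ?_, fun x hx => ?_, ?_⟩,
    ⟨MulEquiv.trans ?_ (kerEquiv c)⟩⟩
  · obtain ⟨x, hx, rfl⟩ := (hmap.ge (Subgroup.mem_top g) : g ∈ _)
    exact ⟨⟨x, hx⟩, rfl⟩
  · exact Subgroup.mem_center_iff.2 fun y =>
      Subtype.ext (Subgroup.mem_center_iff.1 (hcc ((hker x).1 hx)) y.1)
  · -- the derived group is perfect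
    have hlift : ∀ x : Ext c, ∃ x' ∈ E', x'⁻¹ * x ∈ Subgroup.center (Ext c) := by
      intro x
      obtain ⟨x', hx', h⟩ := (hmap.ge (Subgroup.mem_top (proj c x)) : proj c x ∈ _)
      exact ⟨x', hx', hcc (by rw [MonoidHom.mem_ker, map_mul, map_inv, h, inv_mul_cancel])⟩
    have hle : E' ≤ (commutator E').map E'.subtype := by
      rw [Subgroup.map_subtype_commutator]
      conv_lhs => rw [show E' = ⁅(⊤ : Subgroup (Ext c)), ⊤⁆ from commutator_def _]
      rw [Subgroup.commutator_le]
      intro s _ t _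
      obtain ⟨s', hs', hsc⟩ := hlift s
      obtain ⟨t', ht', htc⟩ := hlift t
      have : ⁅s, t⁆ = ⁅s', t'⁆ := by
        have hs2 : s = s' * (s'⁻¹ * s) := by group
        have ht2 : t = t' * (t'⁻¹ * t) := by group
        rw [hs2, ht2, commutatorElement_def, commutatorElement_def]
        have hsc' := Subgroup.mem_center_iff.1 hsc
        have htc' := Subgroup.mem_center_iff.1 htc
        set p := s'⁻¹ * s
        set o := t'⁻¹ * t
        calc s' * p * (t' * o) * (s' * p)⁻¹ * (t' * o)⁻¹
            = s' * (p * t') * (o * p⁻¹) * s'⁻¹ * o⁻¹ * t'⁻¹ := by group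
          _ = s' * (t' * p) * (p⁻¹ * o) * s'⁻¹ * o⁻¹ * t'⁻¹ := by rw [← hsc' t', htc' p⁻¹]
          _ = s' * t' * (o * s'⁻¹) * o⁻¹ * t'⁻¹ := by group
          _ = s' * t' * (s'⁻¹ * o) * o⁻¹ * t'⁻¹ := by rw [← htc' s'⁻¹]
          _ = _ := by group
      rw [this]
      exact Subgroup.commutator_mem_commutator hs' ht'
    intro x _
    obtain ⟨y, hy, hyx⟩ := hle x.2
    rwa [Subtype.ext hyx] at hy
  · exact
      { toFun := fun x => ⟨x.1.1, x.2⟩
        invFun := fun w => ⟨⟨w.1, by
          convert hK w.1.ker using 1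
          exact Ext.ext' c rfl ((mem_ker_proj c).1 w.2)⟩, w.2⟩
        left_inv := fun _ => rfl
        right_inv := fun _ => rfl
        map_mul' := fun _ _ => rfl }

end Cfsg.Agent.M22Mult
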