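import Cfsg.Agent.Lib.M22Mult.ThreeData

/-! Kernel checks of the tables. -/

set_option autoImplicit false
set_option maxRecDepth 100000
set_option Elab.async false

namespace Cfsg.Agent.M22Mult.Three

open Tabs

theorem cos0 : T.cosetsRange 0 500 = true := by
  decide +kernel

theorem cos1 : T.cosetsRange 500 500 = true := by
  decide +kernel

theorem cos2 : T.cosetsRange 1000 500 = true := by
  decide +kernel

theorem cos3 : T.cosetsRange 1500 500 = true := by
  decide +kernel

theorem cos4 : T.cosetsRange 2000 500 = true := by
  decide +kernel

theorem cos5 : T.cosetsRange 2500 500 = true := by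
  decide +kernel

theorem cos6 : T.cosetsRange 3000 500 = true := by
  decide +kernel

theorem cos7 : T.cosetsRange 3500 500 = true := by
  decide +kernel

theorem cos8 : T.cosetsRange 4000 500 = true := by
  decide +kernel

theorem cos9 : T.cosetsRange 4500 500 = true := by
  decide +kernel

theorem cos10 : T.cosetsRange 5000 500 = true := by
  decide +kernel

theorem cos11 : T.cosetsRange 5500 500 = true := by
  decide +kernel

theorem cos12 : T.cosetsRange 6000 160 = true := by
  decide +kernel

theorem total_eq : T.total 6160 = 1 := by
  decide +kernel

end Cfsg.Agent.M22Mult.Three
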