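import Cfsg.Agent.Lib.M22Mult.ThreeData

/-! Kernel checks of the tables. -/

set_option autoImplicit false
set_option maxRecDepth 100000
set_option Elab.async false

namespace Cfsg.Agent.M22Mult.Three

open Tabs

theorem elems_ok : T.elemsOK = true := by
  decide +kernel

theorem mul_ok : allBelow T.mulOK 72 = true := by
  decide +kernel

theorem coc_ok : T.cocOK = true := by
  decide +kernel

theorem pair_ok : T.pairOK = true := by
  decide +kernel

end Cfsg.Agent.M22Mult.Three
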