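import Cfsg.Agent.Lib.M22Mult.FourGroup
import Cfsg.Agent.Lib.M22Mult.FourCosets
import Cfsg.Agent.Lib.M22Mult.ThreeGroup
import Cfsg.Agent.Lib.M22Mult.ThreeCosets
import Cfsg.Agent.Lib.M22Mult.Kernel
import Cfsg.Agent.S1666

/-!
# A stem extension of M22 with cyclic kernel of order twelve
-/

set_option autoImplicit false

namespace Cfsg.Agent.M22Mult

open Cfsg Tabs

theorem perfect_M22 : commutator ↥Spor.M22 = ⊤ := by
  haveI := Golay.M22TwoBlock.isSimple
  rcases IsSimpleGroup.eq_bot_or_eq_top_of_normal (commutator ↥Spor.M22) inferInstance with h | h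
  · exfalso
    refine SmallSimple.Basic.not_comm_of_not_prime (G := ↥Spor.M22) (by rw [S1666.card_M22]; norm_num) ?_
    refine ⟨⟨fun a b => ?_⟩⟩
    exact commutatorElement_eq_one_iff_mul_comm.1 (Subgroup.mem_bot.1 (h ▸ (by
      rw [commutator_def]
      exact Subgroup.commutator_mem_commutator (Subgroup.mem_top a) (Subgroup.mem_top b))))
  · exact h

theorem four_cover : ∃ (X : Type) (_ : Group X) (_ : Finite X) (σ : X →* ↥Spor.M22),
    Cfsg.IsStemExtension σ ∧ Nonempty (σ.ker ≃* Multiplicative (ZMod 4)) := by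
  haveI : NeZero Four.T.q := ⟨by decide⟩
  refine Tabs.exists_stem Four.T perfect_M22 (by rw [S1666.card_M22]; rfl) Four.elems_ok Four.mul_ok
    Four.coc_ok Four.pair_ok (fun i hi => ?_) Four.total_eq (by decide)
  have hi' : i < 3465 := hi
  rcases lt_or_ge i 500 with h | h
  · exact cosetsRange_spec _ Four.cos0 (Nat.zero_le i) (by omega)
  rcases lt_or_ge i 1000 with h' | h'
  · exact cosetsRange_spec _ Four.cos1 h (by omega)
  rcases lt_or_ge i 1500 with h | h
  · exact cosetsRange_spec _ Four.cos2 h' (by omega)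
  rcases lt_or_ge i 2000 with h' | h'
  · exact cosetsRange_spec _ Four.cos3 h (by omega)
  rcases lt_or_ge i 2500 with h | h
  · exact cosetsRange_spec _ Four.cos4 h' (by omega)
  rcases lt_or_ge i 3000 with h' | h'
  · exact cosetsRange_spec _ Four.cos5 h (by omega)
  exact cosetsRange_spec _ Four.cos6 h' (by omega)

theorem three_cover : ∃ (X : Type) (_ : Group X) (_ : Finite X) (σ : X →* ↥Spor.M22),
    Cfsg.IsStemExtension σ ∧ Nonempty (σ.ker ≃* Multiplicative (ZMod 3)) := by
  haveI : NeZero Three.T.q := ⟨by decide⟩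
  refine Tabs.exists_stem Three.T perfect_M22 (by rw [S1666.card_M22]; rfl) Three.elems_ok Three.mul_ok
    Three.coc_ok Three.pair_ok (fun i hi => ?_) Three.total_eq (by decide)
  have hi' : i < 6160 := hi
  rcases lt_or_ge i 3000 with hl | hl
  · rcases lt_or_ge i 500 with h | h
    · exact cosetsRange_spec _ Three.cos0 (Nat.zero_le i) (by omega)
    rcases lt_or_ge i 1000 with h' | h'
    · exact cosetsRange_spec _ Three.cos1 h (by omega)
    rcases lt_or_ge i 1500 with h | h
    · exact cosetsRange_spec _ Three.cos2 h' (by omega)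
    rcases lt_or_ge i 2000 with h' | h'
    · exact cosetsRange_spec _ Three.cos3 h (by omega)
    rcases lt_or_ge i 2500 with h | h
    · exact cosetsRange_spec _ Three.cos4 h' (by omega)
    exact cosetsRange_spec _ Three.cos5 h (by omega)
  rcases lt_or_ge i 3500 with h' | h'
  · exact cosetsRange_spec _ Three.cos6 hl (by omega)
  rcases lt_or_ge i 4000 with h | h
  · exact cosetsRange_spec _ Three.cos7 h' (by omega)
  rcases lt_or_ge i 4500 with h' | h'
  · exact cosetsRange_spec _ Three.cos8 h (by omega)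
  rcases lt_or_ge i 5000 with h | h
  · exact cosetsRange_spec _ Three.cos9 h' (by omega)
  rcases lt_or_ge i 5500 with h' | h'
  · exact cosetsRange_spec _ Three.cos10 h (by omega)
  rcases lt_or_ge i 6000 with h | h
  · exact cosetsRange_spec _ Three.cos11 h' (by omega)
  exact cosetsRange_spec _ Three.cos12 h (by omega)

theorem twelve_cover : ∃ (Γ : Type) (_ : Group Γ) (_ : Finite Γ) (ρ : Γ →* ↥Spor.M22),
    Cfsg.IsStemExtension ρ ∧ Nonempty (ρ.ker ≃* Multiplicative (ZMod 12)) := by
  obtain ⟨X, gX, fX, σ, hσ, ⟨eX⟩⟩ := four_cover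
  obtain ⟨Y, gY, fY, τ, hτ, ⟨eY⟩⟩ := three_cover
  exact fibre_product perfect_M22 (by norm_num : Nat.Coprime 4 3) hσ eX hτ eY

end Cfsg.Agent.M22Mult
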