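import Cfsg.Agent.Lib.M22Mult.UpperData
import Cfsg.Agent.Lib.M22Mult.FourGroup
import Cfsg.Agent.Lib.PcMult.Trivial

/-!
The certificate is realised in M22, so the 2-part of the kernel of a central extension of exponent
eight meets the derived group of a Sylow subgroup in a cyclic group of order dividing four.
-/

set_option autoImplicit false
set_option maxRecDepth 100000
set_option Elab.async false

namespace Cfsg.Agent.M22Mult.Upper

open Cfsg Cfsg.Agent.Golay.Basic Cfsg.Agent.Golay.M24 Cfsg.Agent.Golay.Cert Cfsg.Agent.Golay.TabList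
open Cfsg.Agent.Lib.PcMult SplitMod Tabs

/-- The element numbered `u`. -/
noncomputable def el (u : ℕ) : ↥Spor.M22 := gel (Four.T.lAt u)

/-- The letters. -/
noncomputable def g (i : ℕ) : ↥Spor.M22 := el (2 ^ i)

/-- The conjugators. -/
noncomputable def h (i : ℕ) : ↥Spor.M22 := gel (hTabs.getD i idTab)

/-- The number of a word. -/
def evalI : List ℕ → ℕ
  | [] => 0
  | i :: l => Four.T.mAt (2 ^ i) (evalI l)

/-- The checks of the rules. -/
def rulesOK : Bool :=
  allBelow (fun i => evalI (List.replicate 2 i) == evalI (C.R.pwWord i) &&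
    ((C.R.pwWord i).all fun k => decide (i < k) && decide (k < 7)) &&
    allBelow (fun j => decide (j ≤ i) || (evalI [j, i] == evalI (i :: C.R.cjWord i j) &&
      ((C.R.cjWord i j).all fun k => decide (i < k) && decide (k < 7)))) 7) 7 &&
  allBelow (fun i => allBelow (fun j => decide (j ≤ i) ||
    allBelow (fun u => !(u % 2 ^ (i + 1) == 0) || Four.T.mAt (2 ^ j) u % 2 ^ (i + 1) == 0) 128) 7) 7

/-- The checks of the conjugations. -/
def fusOK : Bool :=
  hTabs.length == C.fus.length && hTabs.all inG && C.fus.zipIdx.all fun qp => qp.1.1.all fun ab =>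
    ab.1.all (fun k => decide (k < 7)) && ab.2.all (fun k => decide (k < 7)) &&
    mulTab (hTabs.getD qp.2 idTab) (Four.T.lAt (evalI ab.1)) ==
      mulTab (Four.T.lAt (evalI ab.2)) (hTabs.getD qp.2 idTab)

theorem rules_ok : rulesOK = true := by
  decide +kernel

theorem fus_ok : fusOK = true := by
  decide +kernel

theorem check_ok : C.check = true := by
  decide +kernel

theorem elems : ∀ u < 128, inG (Four.T.lAt u) = true ∧ canon (Four.T.lAt u) = true ∧
    (∀ v < u, Four.T.lAt u ≠ Four.T.lAt v) ∧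
      ∀ v < 128, Four.T.mAt u v < 128 ∧ el u * el v = el (Four.T.mAt u v) := by
  have he := Four.elems_ok
  simp only [elemsOK, Bool.and_eq_true, decide_eq_true_eq, beq_iff_eq] at he
  have hG : ∀ u < 128, inG (Four.T.lAt u) = true := fun u hu => by
    have := allBelow_spec he.2 u hu
    simp only [Bool.and_eq_true] at this
    exact this.1.1.1
  intro u hu
  have h0 := allBelow_spec he.2 u hu
  simp only [Bool.and_eq_true] at h0
  refine ⟨hG u hu, h0.1.1.2, fun v hv => by simpa using allBelow_spec h0.2 v hv, fun v hv => ?_⟩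
  have hm := allBelow_spec (allBelow_spec Four.mul_ok u hu) v hv
  simp only [Bool.and_eq_true, decide_eq_true_eq, beq_iff_eq] at hm
  have h128 : Four.T.mAt u v < 128 := hm.1
  refine ⟨h128, Subtype.ext ((isTab_mul (isTab_gel (hG u hu)) (isTab_gel (hG v hv))).unique ?_)⟩
  rw [hm.2]
  exact isTab_gel (hG _ h128)

theorem el_zero : el 0 = 1 := by
  have he := Four.elems_ok
  simp only [elemsOK, Bool.and_eq_true, decide_eq_true_eq, beq_iff_eq] at he
  refine Subtype.ext ((isTab_gel (elems 0 (by norm_num)).1).unique ?_)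
  rw [he.1.1.1.2]
  exact isTab_one

theorem el_inj {u v : ℕ} (hu : u < 128) (hv : v < 128) (h : el u = el v) : u = v := by
  have e := eq_of_isTab (elems u hu).2.1 (elems v hv).2.1 (isTab_gel (elems u hu).1)
    (by rw [show gel (Four.T.lAt u) = gel (Four.T.lAt v) from h]; exact isTab_gel (elems v hv).1)
  rcases lt_trichotomy u v with hl | hl | hl
  · exact absurd e.symm ((elems v hv).2.2.1 u hl)
  · exact hl
  · exact absurd e ((elems u hu).2.2.1 v hl)

theorem eval_spec : ∀ l : List ℕ, (∀ i ∈ l, i < 7) → evalI l < 128 ∧ el (evalI l) = W g l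
  | [], _ => ⟨by norm_num [evalI], el_zero⟩
  | i :: l, hl => by
    obtain ⟨h1, h2⟩ := eval_spec l fun j hj => hl j (List.mem_cons_of_mem _ hj)
    have hi : (2 : ℕ) ^ i < 128 := by
      have := hl i (List.mem_cons_self ..)
      calc 2 ^ i < 2 ^ 7 := Nat.pow_lt_pow_right (by norm_num) this
        _ = 128 := by norm_num
    obtain ⟨h3, h4⟩ := (elems _ hi).2.2.2 _ h1
    refine ⟨h3, ?_⟩
    rw [W_cons, ← h2]
    exact h4.symm

theorem all_lt {l : List ℕ} (h : (l.all fun k => decide (k < 7)) = true) : ∀ k ∈ l, k < 7 := fun k hk =>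
  of_decide_eq_true (List.all_eq_true.1 h k hk)

theorem real : C.toCert.Real g h := by
  have hr := rules_ok
  simp only [rulesOK, Bool.and_eq_true] at hr
  obtain ⟨hrule, hclosed⟩ := hr
  have hR : ∀ i < 7, evalI (List.replicate 2 i) = evalI (C.R.pwWord i) ∧
      (∀ k ∈ C.R.pwWord i, i < k ∧ k < 7) ∧ ∀ j, i < j → j < 7 →
        evalI [j, i] = evalI (i :: C.R.cjWord i j) ∧ ∀ k ∈ C.R.cjWord i j, i < k ∧ k < 7 := by
    intro i hi
    have h := allBelow_spec hrule i hi
    simp only [Bool.and_eq_true, beq_iff_eq, List.all_eq_true, decide_eq_true_eq] at h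
    refine ⟨h.1.1, h.1.2, fun j hij hj => ?_⟩
    have h' := allBelow_spec h.2 j hj
    simp only [Bool.or_eq_true, decide_eq_true_eq, Bool.and_eq_true, beq_iff_eq, List.all_eq_true] at h'
    rcases h' with h' | h'
    · omega
    · exact h'
  have hn : C.R.n = 7 := rfl
  refine ⟨fun i hi => ?_, fun i j hij hj => ?_, fun qp hqp ab hab => ?_, fun i hi => ?_, fun i hi => ?_⟩
  · obtain ⟨e, hk, -⟩ := hR i hi
    have h1 := (eval_spec (List.replicate 2 i) fun j hj => by rw [List.eq_of_mem_replicate hj]; exact hi).2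
    rw [W_replicate] at h1
    show g i ^ 2 = _
    rw [← h1, ← (eval_spec _ fun k hk' => (hk k hk').2).2, e]
  · have hi : i < 7 := hij.trans hj
    obtain ⟨e, hk⟩ := (hR i hi).2.2 j hij hj
    have h1 := (eval_spec [j, i] fun k hk' => by simp at hk'; omega).2
    have h2 := (eval_spec (i :: C.R.cjWord i j) fun k hk' => by
      rcases List.mem_cons.1 hk' with rfl | hk'
      exacts [hi, (hk k hk').2]).2
    rw [e, h2] at h1
    simpa [W] using h1.symm
  · have hf := fus_ok
    simp only [fusOK, Bool.and_eq_true, beq_iff_eq, List.all_eq_true] at hf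
    obtain ⟨⟨hlen, hin⟩, hall⟩ := hf
    obtain ⟨⟨h1, h2⟩, e⟩ := hall qp hqp ab hab
    have hq : qp.2 < hTabs.length := by
      rw [hlen]
      have := List.snd_lt_of_mem_zipIdx hqp
      simpa using this
    have hg : inG (hTabs.getD qp.2 idTab) = true := by
      rw [List.getD_eq_getElem _ _ hq]; exact hin _ (List.getElem_mem hq)
    obtain ⟨a1, a2⟩ := eval_spec ab.1 fun k hk => of_decide_eq_true (h1 k hk)
    obtain ⟨b1, b2⟩ := eval_spec ab.2 fun k hk => of_decide_eq_true (h2 k hk)
    rw [← a2, ← b2]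
    exact gel_mul hg (elems _ a1).1 (elems _ b1).1 hg e
  · exact ⟨(hR i hi).2.1, fun j hij hj k hk => ((hR i hi).2.2 j hij hj).2 k hk⟩
  · have h7 : ∀ j < 7, (2 : ℕ) ^ j < 128 := fun j hj => by
      calc 2 ^ j < 2 ^ 7 := Nat.pow_lt_pow_right (by norm_num) hj
        _ = 128 := by norm_num
    refine not_mem_closure (fun a x => a * x) one_mul mul_assoc
      (((List.range 128).filter fun u => u % 2 ^ (i + 1) == 0).map el) (b := 1) ?_ ?_ ?_
    · exact List.mem_map.2 ⟨0, by simp, el_zero⟩
    · rintro s ⟨j, ⟨hij, hj⟩, rfl⟩ x hx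
      obtain ⟨u, hu, rfl⟩ := List.mem_map.1 hx
      simp only [List.mem_filter, List.mem_range, beq_iff_eq] at hu
      obtain ⟨h1, h2⟩ := (elems _ (h7 j hj)).2.2.2 u hu.1
      refine List.mem_map.2 ⟨_, List.mem_filter.2 ⟨List.mem_range.2 h1, ?_⟩, h2.symm⟩
      have hc := allBelow_spec (allBelow_spec hclosed i hi) j hj
      simp only [Bool.or_eq_true, decide_eq_true_eq] at hc
      rcases hc with hc | hc
      · omega
      · have := allBelow_spec hc u hu.1
        simpa [hu.2] using this
    · rw [mul_one]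
      intro hx
      obtain ⟨u, hu, e⟩ := List.mem_map.1 hx
      simp only [List.mem_filter, List.mem_range, beq_iff_eq] at hu
      obtain rfl := el_inj hu.1 (h7 i hi) e
      have h2 := Nat.mod_eq_of_lt (Nat.pow_lt_pow_right (by norm_num : 1 < 2) (Nat.lt_succ_self i))
      rw [h2] at hu
      exact (pow_pos (by norm_num : 0 < 2) i).ne' hu.2

end Cfsg.Agent.M22Mult.Upper
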