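import Cfsg.Agent.Lib.M22Mult.Lower
import Cfsg.Agent.Lib.M22Mult.Upper

/-!
# The multiplier of M22
-/

set_option autoImplicit false
set_option maxRecDepth 20000

namespace Cfsg.Agent.M22Mult

open Cfsg Cfsg.Agent.Lib.PcMult Cfsg.Agent.Golay.M24 Cfsg.Agent.Golay.Cert Cfsg.Agent.Golay.TabList
open scoped commutatorElement

theorem factor_two : (Nat.card ↥Spor.M22).factorization 2 = 7 := by
  rw [S1666.card_M22, show (443520 : ℕ) = 2 ^ 7 * 3465 from rfl,
    Nat.factorization_mul (by norm_num) (by norm_num), Nat.Prime.factorization_pow Nat.prime_two]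
  simp [Nat.factorization_eq_zero_of_not_dvd]

/-- The number of a product in the table of the subgroup of order 72. -/
noncomputable def el3 (u : ℕ) : ↥Spor.M22 := Tabs.gel (Three.T.lAt u)

theorem el3_spec : ∀ u < 72, Tabs.inG (Three.T.lAt u) = true ∧
    ∀ v < 72, el3 u * el3 v = el3 (Three.T.mAt u v) := by
  have he := Three.elems_ok
  simp only [Tabs.elemsOK, Bool.and_eq_true, decide_eq_true_eq, beq_iff_eq] at he
  have hG : ∀ u < 72, Tabs.inG (Three.T.lAt u) = true := fun u hu => by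
    have := Tabs.allBelow_spec he.2 u hu
    simp only [Bool.and_eq_true] at this
    exact this.1.1.1
  intro u hu
  refine ⟨hG u hu, fun v hv => ?_⟩
  have hm := Tabs.allBelow_spec (Tabs.allBelow_spec Three.mul_ok u hu) v hv
  simp only [Bool.and_eq_true, decide_eq_true_eq, beq_iff_eq] at hm
  refine Subtype.ext ((isTab_mul (Tabs.isTab_gel (hG u hu)) (Tabs.isTab_gel (hG v hv))).unique ?_)
  rw [hm.2]
  exact Tabs.isTab_gel (hG _ hm.1)

theorem el3_zero : el3 0 = 1 := by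
  have he := Three.elems_ok
  simp only [Tabs.elemsOK, Bool.and_eq_true, decide_eq_true_eq, beq_iff_eq] at he
  refine Subtype.ext ((Tabs.isTab_gel (el3_spec 0 (by norm_num)).1).unique ?_)
  rw [he.1.1.1.2]
  exact isTab_one

/-- The facts about the table used for the Sylow subgroup at the prime three. -/
def threeTabOK : Bool :=
  Tabs.allBelow (fun u => decide (Three.T.mAt 1 u < 9) && decide (Three.T.mAt 3 u < 9)) 9 &&
    Three.T.mAt 1 (Three.T.mAt 1 1) == 0 && Three.T.mAt 3 (Three.T.mAt 3 3) == 0 &&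
    Three.T.mAt 1 3 == Three.T.mAt 3 1 &&
    Tabs.allBelow (fun u => u == 0 || (Three.T.mAt 1 (u - 1) == u) || (decide (3 ≤ u) && Three.T.mAt 3 (u - 3) == u)) 9

theorem three_tab_ok : threeTabOK = true := by
  decide +kernel

theorem el3_inj {u v : ℕ} (hu : u < 9) (hv : v < 9) (h : el3 u = el3 v) : u = v := by
  have he := Three.elems_ok
  simp only [Tabs.elemsOK, Bool.and_eq_true, decide_eq_true_eq, beq_iff_eq] at he
  have hu' : u < 72 := by omega
  have hv' : v < 72 := by omega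
  have a := Tabs.allBelow_spec he.2 u hu'
  have b := Tabs.allBelow_spec he.2 v hv'
  simp only [Bool.and_eq_true] at a b
  have e := eq_of_isTab a.1.1.2 b.1.1.2 (Tabs.isTab_gel (el3_spec u hu').1)
    (by rw [show Tabs.gel (Three.T.lAt u) = Tabs.gel (Three.T.lAt v) from h]
        exact Tabs.isTab_gel (el3_spec v hv').1)
  rcases lt_trichotomy u v with hl | hl | hl
  · simpa [e] using Tabs.allBelow_spec b.2 u hl
  · exact hl
  · simpa [e] using Tabs.allBelow_spec a.2 v hl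

/-- The Sylow 3-subgroup. -/
theorem exists_three : ∃ (x y : ↥Spor.M22) (S : Sylow 3 ↥Spor.M22),
    x ^ 3 = 1 ∧ y ^ 3 = 1 ∧ x * y = y * x ∧ (S : Subgroup ↥Spor.M22) = Subgroup.closure {x, y} := by
  have h := three_tab_ok
  simp only [threeTabOK, Bool.and_eq_true, beq_iff_eq] at h
  obtain ⟨⟨⟨⟨hcl, h1⟩, h2⟩, h12⟩, hgen⟩ := h
  have hmul : ∀ i < 9, ∀ u < 9, el3 i * el3 u = el3 (Three.T.mAt i u) := fun i hi u hu =>
    (el3_spec i (by omega)).2 u (by omega)
  have hb : ∀ u < 9, Three.T.mAt 1 u < 9 ∧ Three.T.mAt 3 u < 9 := fun u hu => by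
    simpa only [Bool.and_eq_true, decide_eq_true_eq] using Tabs.allBelow_spec hcl u hu
  set x := el3 1
  set y := el3 3
  have hx : x ^ 3 = 1 := by
    rw [pow_three, hmul 1 (by norm_num) 1 (by norm_num),
      hmul 1 (by norm_num) _ (hb 1 (by norm_num)).1, h1, el3_zero]
  have hy : y ^ 3 = 1 := by
    rw [pow_three, hmul 3 (by norm_num) 3 (by norm_num),
      hmul 3 (by norm_num) _ (hb 3 (by norm_num)).2, h2, el3_zero]
  have hxy : x * y = y * x := by
    rw [hmul 1 (by norm_num) 3 (by norm_num), hmul 3 (by norm_num) 1 (by norm_num), h12]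
  set H := Subgroup.closure {x, y}
  have hin : ∀ u < 9, el3 u ∈ H := by
    intro u
    induction u using Nat.strong_induction_on with
    | _ u ih =>
      intro hu
      have := Tabs.allBelow_spec hgen u hu
      simp only [Bool.or_eq_true, Bool.and_eq_true, beq_iff_eq, decide_eq_true_eq] at this
      rcases this with (h | h) | ⟨h3, h⟩
      · rw [h, el3_zero]; exact one_mem _
      · rcases Nat.eq_zero_or_pos u with h0 | h0
        · rw [h0, el3_zero]; exact one_mem _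
        rw [← h, ← hmul 1 (by norm_num) (u - 1) (by omega)]
        exact mul_mem (Subgroup.subset_closure (by simp [x])) (ih (u - 1) (by omega) (by omega))
      · rw [← h, ← hmul 3 (by norm_num) (u - 3) (by omega)]
        exact mul_mem (Subgroup.subset_closure (by simp [y])) (ih (u - 3) (by omega) (by omega))
  have hsub : (H : Set ↥Spor.M22) = el3 '' {u | u < 9} := by
    refine Set.Subset.antisymm ?_ (by rintro _ ⟨u, hu, rfl⟩; exact hin u hu)
    let M : Submonoid ↥Spor.M22 :=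
      { carrier := {s | ∀ u < 9, s * el3 u ∈ el3 '' {u | u < 9}}
        one_mem' := fun u hu => by rw [one_mul]; exact ⟨u, hu, rfl⟩
        mul_mem' := fun {s t} hs ht u hu => by
          obtain ⟨w, hw, e⟩ := ht u hu
          rw [mul_assoc, ← e]
          exact hs w hw }
    intro s hs
    have hs' : s ∈ M := by
      rw [SetLike.mem_coe, ← Subgroup.mem_toSubmonoid, Subgroup.closure_toSubmonoid_of_finite] at hs
      refine (Submonoid.closure_le (S := M)).2 ?_ hs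
      rintro s (rfl | rfl) u hu
      · exact ⟨_, (hb u hu).1, (hmul 1 (by norm_num) u hu).symm⟩
      · exact ⟨_, (hb u hu).2, (hmul 3 (by norm_num) u hu).symm⟩
    have := hs' 0 (by norm_num)
    rwa [el3_zero, mul_one] at this
  have hcard : Nat.card H = 9 := by
    rw [← SetLike.coe_sort_coe, hsub]
    let f : Fin 9 → ↑(el3 '' {u | u < 9}) := fun u => ⟨el3 u, u, u.2, rfl⟩
    have hf : Function.Bijective f :=
      ⟨fun u v h => Fin.ext (el3_inj u.2 v.2 (congrArg Subtype.val h)),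
        fun ⟨_, u, hu, e⟩ => ⟨⟨u, hu⟩, Subtype.ext e⟩⟩
    rw [← Nat.card_eq_of_bijective f hf, Nat.card_fin]
  haveI : Fact (Nat.Prime 3) := ⟨Nat.prime_three⟩
  refine ⟨x, y, Sylow.ofCard H ?_, hx, hy, hxy, rfl⟩
  rw [hcard, S1666.card_M22, show (443520 : ℕ) = 3 ^ 2 * 49280 from rfl,
    Nat.factorization_mul (by norm_num) (by norm_num), Nat.Prime.factorization_pow Nat.prime_three]
  simp [Nat.factorization_eq_zero_of_not_dvd]

/-- The 3-elements of the kernel. -/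
theorem three_part {Γ : Type} [Group Γ] [Finite Γ] {σ : Γ →* ↥Spor.M22} (hσ : Function.Surjective σ)
    (hc : σ.ker ≤ Subgroup.center Γ) (hd : σ.ker ≤ commutator Γ) :
    ∃ c ∈ σ.ker, c ^ 3 = 1 ∧ ∀ z ∈ σ.ker, ∀ m : ℕ, z ^ 3 ^ m = 1 → z ∈ Subgroup.zpowers c := by
  haveI : Fact (Nat.Prime 3) := ⟨Nat.prime_three⟩
  obtain ⟨x, y, S, hx, hy, hxy, hS⟩ := exists_three
  obtain ⟨X, hX⟩ := hσ x
  obtain ⟨Y, hY⟩ := hσ y
  have hck : ⁅X, Y⁆ ∈ σ.ker := by
    rw [MonoidHom.mem_ker, map_commutatorElement, hX, hY, commutatorElement_eq_one_iff_mul_comm, hxy]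
  set c := ⁅X, Y⁆
  have hcC := Subgroup.mem_center_iff.1 (hc hck)
  have hconj : X * Y * X⁻¹ = c * Y := by
    show X * Y * X⁻¹ = ⁅X, Y⁆ * Y
    rw [commutatorElement_def, inv_mul_cancel_right]
  have hc3 : c ^ 3 = 1 := by
    have h3 : X ^ 3 * Y * (X ^ 3)⁻¹ = Y := by
      rw [← Subgroup.mem_center_iff.1 (hc (show X ^ 3 ∈ σ.ker by rw [MonoidHom.mem_ker, map_pow, hX, hx])) Y,
        mul_inv_cancel_right]
    have e : X ^ 3 * Y * (X ^ 3)⁻¹ = c * (c * (c * Y)) := by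
      have hstep : ∀ w, X * (c * w) * X⁻¹ = c * (X * w * X⁻¹) := fun w => by
        rw [← mul_assoc, hcC X]; group
      calc X ^ 3 * Y * (X ^ 3)⁻¹ = X * (X * (X * Y * X⁻¹) * X⁻¹) * X⁻¹ := by simp only [pow_three, mul_inv_rev, mul_assoc]
        _ = _ := by simp only [hconj, hstep]
    rw [h3] at e
    rw [pow_three]
    have : c * (c * c) * Y = 1 * Y := by rw [one_mul, mul_assoc, mul_assoc, ← e]
    exact mul_right_cancel this
  refine ⟨c, hck, hc3, ?_⟩
  obtain ⟨P, hP⟩ : ∃ P : Sylow 3 Γ, ∀ a ∈ (P : Subgroup Γ), σ a ∈ (S : Subgroup ↥Spor.M22) := by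
    obtain ⟨g, hg⟩ := MulAction.exists_smul_eq ↥Spor.M22 ((default : Sylow 3 Γ).mapSurjective hσ) S
    obtain ⟨γ, rfl⟩ := hσ g
    refine ⟨γ • default, fun a ha => ?_⟩
    obtain ⟨b, hb, rfl⟩ := ha
    rw [← hg]
    refine ⟨σ b, ⟨b, hb, rfl⟩, ?_⟩
    simp
  set N := Subgroup.zpowers c
  haveI : N.Normal := ⟨fun n hn g => by
    rw [Subgroup.mem_center_iff.1 (hc (Subgroup.zpowers_le.2 hck hn)) g, mul_inv_cancel_right]; exact hn⟩
  let π : Γ →* Γ ⧸ N := QuotientGroup.mk' N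
  have hXY : π X * π Y = π Y * π X := by
    rw [← commutatorElement_eq_one_iff_mul_comm, ← map_commutatorElement]
    exact (QuotientGroup.eq_one_iff _).2 (Subgroup.mem_zpowers c)
  have hcov : ∀ a ∈ (P : Subgroup Γ), ∃ b ∈ Subgroup.closure {X, Y}, ∃ k ∈ σ.ker, a = b * k := by
    intro a ha
    have h := hP a ha
    rw [hS, show ({x, y} : Set ↥Spor.M22) = σ '' {X, Y} by rw [Set.image_pair, hX, hY],
      ← MonoidHom.map_closure] at h
    obtain ⟨b, hb, e⟩ := h
    exact ⟨b, hb, b⁻¹ * a, by rw [MonoidHom.mem_ker, map_mul, map_inv, e, inv_mul_cancel], by group⟩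
  have hab : ∀ b₁ ∈ Subgroup.closure {X, Y}, ∀ b₂ ∈ Subgroup.closure {X, Y},
      π b₁ * π b₂ = π b₂ * π b₁ := by
    intro b₁ h₁ b₂ h₂
    have hA : ∀ w₁ ∈ ({π X, π Y} : Set (Γ ⧸ N)), ∀ w₂ ∈ ({π X, π Y} : Set (Γ ⧸ N)), w₁ * w₂ = w₂ * w₁ := by
      rintro _ (rfl | rfl) _ (rfl | rfl)
      exacts [rfl, hXY, hXY.symm, rfl]
    have m : ∀ b ∈ Subgroup.closure {X, Y}, π b ∈ Subgroup.closure {π X, π Y} := fun b hb => by
      rw [show ({π X, π Y} : Set (Γ ⧸ N)) = π '' {X, Y} by rw [Set.image_pair], ← MonoidHom.map_closure]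
      exact Subgroup.mem_map_of_mem π hb
    haveI := Subgroup.isMulCommutative_closure hA
    exact congrArg Subtype.val (mul_comm' (⟨π b₁, m _ h₁⟩ : Subgroup.closure {π X, π Y}) ⟨π b₂, m _ h₂⟩)
  intro z hz m hzm
  have hzP := (Subgroup.mem_inf.1 (mem_derived_sylow hc hd P hz hzm)).1
  refine Subgroup.commutator_le.2 (fun a ha b hb => ?_) hzP
  obtain ⟨a', ha', k, hk, rfl⟩ := hcov a ha
  obtain ⟨b', hb', l, hl, rfl⟩ := hcov b hb
  rw [← QuotientGroup.eq_one_iff]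
  show π ⁅a' * k, b' * l⁆ = 1
  rw [map_commutatorElement, commutatorElement_eq_one_iff_mul_comm, map_mul, map_mul]
  have cen : ∀ k ∈ σ.ker, ∀ w, Commute (π k) (π w) := fun k hk w => by
    show π k * π w = π w * π k
    rw [← map_mul, ← map_mul, Subgroup.mem_center_iff.1 (hc hk) w]
  rw [(cen k hk b').mul_mul_mul_comm, (cen l hl a').mul_mul_mul_comm, hab a' ha' b' hb', (cen k hk l).eq]

/-- The 2-elements of the kernel modulo eighth powers. -/
theorem two_part {Γ : Type} [Group Γ] [Finite Γ] {σ : Γ →* ↥Spor.M22} (hσ : Function.Surjective σ)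
    (hc : σ.ker ≤ Subgroup.center Γ) (hd : σ.ker ≤ commutator Γ) :
    ∃ k ∈ σ.ker, (∃ y ∈ σ.ker, k ^ 4 = y ^ 8) ∧
      ∀ z ∈ σ.ker, ∀ m : ℕ, z ^ 2 ^ m = 1 → ∃ (i : ℤ), ∃ y ∈ σ.ker, z = k ^ i * y ^ 8 := by
  haveI : Fact (Nat.Prime 2) := ⟨Nat.prime_two⟩
  let N : Subgroup Γ :=
    { carrier := {n | ∃ k, σ k = 1 ∧ n = k ^ 8}
      one_mem' := ⟨1, map_one σ, by simp⟩
      mul_mem' := by
        rintro _ _ ⟨k, hk, rfl⟩ ⟨l, hl, rfl⟩
        exact ⟨k * l, by rw [map_mul, hk, hl, one_mul],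
          ((show Commute k l from Subgroup.mem_center_iff.1 (hc hl) k).mul_pow 8).symm⟩
      inv_mem' := by
        rintro _ ⟨k, hk, rfl⟩
        exact ⟨k⁻¹, by rw [map_inv, hk, inv_one], (inv_pow k 8).symm⟩ }
  have hNk : N ≤ σ.ker := by
    rintro _ ⟨k, hk, rfl⟩
    rw [MonoidHom.mem_ker, map_pow, hk, one_pow]
  haveI : N.Normal := ⟨fun n hn g => by
    rw [Subgroup.mem_center_iff.1 (hc (hNk hn)) g, mul_inv_cancel_right]; exact hn⟩
  let π : Γ →* Γ ⧸ N := QuotientGroup.mk' N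
  have hπ : Function.Surjective π := QuotientGroup.mk'_surjective N
  let τ : Γ ⧸ N →* ↥Spor.M22 := QuotientGroup.lift N σ hNk
  have hτs : Function.Surjective τ := fun g => by obtain ⟨x, rfl⟩ := hσ g; exact ⟨π x, rfl⟩
  have hker : ∀ w, τ w = 1 → ∃ k ∈ σ.ker, π k = w := fun w hw => by
    obtain ⟨k, rfl⟩ := hπ w; exact ⟨k, hw, rfl⟩
  have hτc : τ.ker ≤ Subgroup.center (Γ ⧸ N) := by
    intro w hw
    obtain ⟨k, hk, rfl⟩ := hker w hw
    refine Subgroup.mem_center_iff.2 fun g => ?_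
    obtain ⟨g, rfl⟩ := hπ g
    rw [← map_mul, ← map_mul, Subgroup.mem_center_iff.1 (hc hk) g]
  have hτd : τ.ker ≤ commutator (Γ ⧸ N) := by
    intro w hw
    obtain ⟨k, hk, rfl⟩ := hker w hw
    have h := Subgroup.mem_map_of_mem π (hd hk)
    rw [commutator_def, Subgroup.map_commutator, Subgroup.map_top_of_surjective _ hπ] at h
    exact h
  have hτe : ∀ w, τ w = 1 → w ^ Upper.C.q = 1 := by
    intro w hw
    obtain ⟨k, hk, rfl⟩ := hker w hw
    rw [← map_pow]
    exact (QuotientGroup.eq_one_iff _).2 ⟨k, hk, rfl⟩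
  obtain ⟨z₀, hz₀, h4, hsyl⟩ := SplitMod.bound (σ := τ) (C := Upper.C) (by decide) Nat.prime_two hτc hτs
    hτe Upper.check_ok Upper.real factor_two
  obtain ⟨k, hk, rfl⟩ := hker z₀ hz₀
  refine ⟨k, hk, ?_, fun z hz m hzm => ?_⟩
  · rw [← map_pow] at h4
    obtain ⟨y, hy, e⟩ := (QuotientGroup.eq_one_iff _).1 h4
    exact ⟨y, hy, e⟩
  · let P : Sylow 2 (Γ ⧸ N) := default
    have h := hsyl (p := 2) rfl P (mem_derived_sylow hτc hτd P (show π z ∈ τ.ker from hz)
      (k := m) (by rw [← map_pow, hzm, map_one]))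
    obtain ⟨i, hi⟩ := Subgroup.mem_zpowers_iff.1 h
    have : (k ^ i)⁻¹ * z ∈ N := by
      rw [← QuotientGroup.eq_one_iff]
      show π _ = 1
      rw [map_mul, map_inv, map_zpow, hi, inv_mul_cancel]
    obtain ⟨y, hy, e⟩ := this
    exact ⟨i, y, hy, by rw [← e, mul_inv_cancel_left]⟩

/-- The Schur multiplier of M22 is cyclic of order twelve. -/
theorem multiplier_M22 : Cfsg.HasCyclicSchurMultiplier ↥Spor.M22 12 := by
  refine ⟨twelve_cover, fun Γ _ _ σ hs => ?_⟩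
  obtain ⟨hσ, hc, hd⟩ := hs
  letI : CommGroup σ.ker := SplitMod.kerComm hc
  obtain ⟨c, hck, hc3, h3⟩ := three_part hσ hc hd
  obtain ⟨k, hkk, ⟨y, hy, e⟩, h2⟩ := two_part hσ hc hd
  refine image_twelve (K := σ.ker) ?_ (c := ⟨c, hck⟩) (Subtype.ext hc3) ?_ (k := ⟨k, hkk⟩)
    ⟨⟨y, hy⟩, Subtype.ext e⟩ ?_
  · intro p hp hdvd
    by_contra hne
    haveI := Fact.mk hp
    have hpG : ¬ p ^ 2 ∣ Nat.card ↥Spor.M22 := by
      intro h
      rw [S1666.card_M22, show (443520 : ℕ) = 2 ^ 7 * (3 ^ 2 * (5 * 7 * 11)) from rfl] at h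
      have hp2 : ¬ p ∣ 2 := fun hd => hne (Or.inl ((Nat.prime_dvd_prime_iff_eq hp Nat.prime_two).1 hd))
      have hp3 : ¬ p ∣ 3 := fun hd => hne (Or.inr ((Nat.prime_dvd_prime_iff_eq hp Nat.prime_three).1 hd))
      have c2 : (p ^ 2).Coprime (2 ^ 7) := Nat.Coprime.pow 2 7 (hp.coprime_iff_not_dvd.2 hp2)
      have c3 : (p ^ 2).Coprime (3 ^ 2) := Nat.Coprime.pow 2 2 (hp.coprime_iff_not_dvd.2 hp3)
      have h' := c3.dvd_of_dvd_mul_left (c2.dvd_of_dvd_mul_left h)
      have hsq : Squarefree (5 * 7 * 11) := by decide +kernel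
      exact hp.ne_one (Nat.isUnit_iff.1 (hsq p (by rwa [← pow_two])))
    exact Suzuki.Multiplier.no_prime_in_kernel σ hc hd default
      (Transfer.SplitLifts.cyclic_criterion hc hσ hpG default) hdvd
  · intro x m hx
    obtain ⟨i, hi⟩ := Subgroup.mem_zpowers_iff.1 (h3 x x.2 m (congrArg Subtype.val hx))
    exact Subgroup.mem_zpowers_iff.2 ⟨i, Subtype.ext hi⟩
  · intro x m hx
    obtain ⟨i, y, hy, e⟩ := h2 x x.2 m (congrArg Subtype.val hx)
    exact ⟨i, ⟨y, hy⟩, Subtype.ext e⟩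

end Cfsg.Agent.M22Mult
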