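import Cfsg.Agent.Lib.PcMult.Split

/-!
# A Sylow criterion for central kernels of exponent `q`

As in `PcMult.Cert.split`, with forms modulo `q`: if after shifting the lifts every rule form is a
combination of the equations and of one further form `v0`, then the derived group of a Sylow subgroup
of the extension meets the kernel inside the cyclic group of the value of `v0`.
-/

set_option autoImplicit false
set_option linter.unusedSectionVars false
set_option linter.style.haveILetI false

namespace Cfsg.Agent.M22Mult.SplitMod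

open Cfsg.Agent Cfsg.Agent.Lib.PcMult
open scoped commutatorElement

/-- The data. -/
structure ModCert extends Cert where
  q : ℕ
  v0 : List ℕ
  e0 : ℕ
  tors : List ℕ

namespace ModCert

variable (C : ModCert)

/-- The forms. -/
def ops : Ops (List ℕ) := vecOps C.q

/-- The form `a - b`. -/
def mdiff (a b : List ℕ) : List ℕ := C.ops.add (C.ops.tot a) (C.ops.smul (C.q - 1) (C.ops.tot b))

/-- The equation of an overlap. -/
def overEq (o : List ℕ × List ℕ × List ℕ) : Option (List ℕ) :=
  match C.R.collectW (o.1 ++ o.2.1 ++ o.2.2), C.R.collectW o.2.1 with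
  | some (vL, fL), some (vb, fb) =>
    match C.R.collectW (o.1 ++ toWord 0 vb ++ o.2.2) with
    | some (vR, fR) => if vL = vR then some (C.mdiff fL (fb ++ fR)) else none
    | none => none
  | _, _ => none

/-- The equation of a relation in a conjugation. -/
def fusEq (q : ℕ) (ps : List (List ℕ × List ℕ)) (r : List ℕ) : Option (List ℕ) :=
  if r.all (fun k => decide (k < ps.length)) = true ∧ ps.length ≤ 32 then
    match C.R.collectW (r.flatMap fun k => (ps.getD k ([], [])).1),
      C.R.collectW (r.flatMap fun k => (ps.getD k ([], [])).2) with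
    | some (va, fa), some (vb, fb) =>
      if toWord 0 va = [] ∧ toWord 0 vb = [] then
        some (C.mdiff fa (fb ++ r.map (C.toCert.uIdx q))) else none
    | _, _ => none
  else none

/-- All equations. -/
def eqs : List (Option (List ℕ)) :=
  C.ovl.map C.overEq ++ C.fus.zipIdx.flatMap fun qp => qp.1.2.map fun r => C.fusEq qp.2 qp.1.1 r.1

/-- The form of a rule after the shift. -/
def ruleForm (r : ℕ × ℕ) : List ℕ :=
  if r.1 = r.2 then
    C.mdiff (C.R.idx r.1 r.1 :: (List.replicate C.R.p (C.shift.getD r.1 [])).flatten)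
      (C.toCert.shiftW (C.R.pwWord r.1))
  else C.mdiff (C.R.idx r.1 r.2 :: C.shift.getD r.2 []) (C.toCert.shiftW (C.R.cjWord r.1 r.2))

/-- The check. -/
def check : Bool :=
  C.eqs.all Option.isSome &&
    C.ops.holdAll (C.eqs.filterMap id) fun es =>
      (List.range C.toCert.rules.length).all (fun k =>
        C.ops.isZero (C.ops.add (C.ruleForm (C.toCert.rules.getD k (0, 0)))
          (C.ops.comb (C.combs.getD k []) (C.v0 :: es)))) &&
      C.ops.isZero (C.ops.add (C.ops.smul C.e0 C.v0) (C.ops.comb C.tors es))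

end ModCert

section Main

universe u

variable {Γ : Type u} {G : Type*} [Group Γ] [Group G]

/-- The element whose class is the variable `v`. -/
def tval (C : Cert) (X H : ℕ → Γ) (v : ℕ) : Γ :=
  if v < C.R.n * C.R.n then
    if v / C.R.n = v % C.R.n then (W X (C.R.pwWord (v / C.R.n)))⁻¹ * X (v / C.R.n) ^ C.R.p
    else (W X (C.R.cjWord (v / C.R.n) (v % C.R.n)))⁻¹ * (X (v / C.R.n))⁻¹ *
      (X (v % C.R.n) * X (v / C.R.n))
  else
    let q := (v - C.R.n * C.R.n) / 32
    let ab := ((C.fus.getD q ([], [])).1).getD ((v - C.R.n * C.R.n) % 32) ([], [])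
    (W X ab.2)⁻¹ * (H q * W X ab.1 * (H q)⁻¹)

open scoped _root_.Classical in
/-- The value of the variable `v`. -/
noncomputable def tau (C : Cert) (σ : Γ →* G) (X H : ℕ → Γ) (v : ℕ) : σ.ker :=
  if hv : σ (tval C X H v) = 1 then ⟨tval C X H v, hv⟩ else 1

theorem map_tval {Δ : Type u} [Group Δ] (π : Γ →* Δ) (C : Cert) (X H : ℕ → Γ) (v : ℕ) :
    π (tval C X H v) = tval C (fun i => π (X i)) (fun i => π (H i)) v := by
  simp only [tval]
  split_ifs <;> simp only [map_mul, map_inv, map_pow, map_W]

theorem map_evVec {K L : Type*} [CommGroup K] [CommGroup L] (f : K →* L) :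
    ∀ (c : List ℕ) (τ : ℕ → K), f (evVec τ c) = evVec (fun v => f (τ v)) c
  | [], _ => map_one f
  | a :: c, τ => by simp only [evVec, map_mul, map_pow, map_evVec f c]

/-- A central kernel as a commutative group. -/
@[reducible] def kerComm {σ : Γ →* G} (hc : σ.ker ≤ Subgroup.center Γ) : CommGroup σ.ker :=
  { (σ.ker.toGroup : Group σ.ker) with
    mul_comm := fun a b => Subtype.ext ((Subgroup.mem_center_iff.1 (hc b.2)) a) }

variable [Finite Γ] [Finite G] {σ : Γ →* G}

/-- The equations hold, and they bound the order of the value of `v0`. -/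
theorem facts {C : ModCert} (hp : 0 < C.q) (hc : σ.ker ≤ Subgroup.center Γ)
    (hex : ∀ z, σ z = 1 → z ^ C.q = 1) {g h : ℕ → G} (hR : C.toCert.Real g h) (X H : ℕ → Γ)
    (hX : ∀ i, σ (X i) = g i) (hH : ∀ i, σ (H i) = h i) :
    letI := kerComm hc
    (∀ f, some f ∈ C.eqs → evVec (tau C.toCert σ X H) f = 1) ∧
      C.ops.Valid C.q (tau C.toCert σ X H) (evVec (tau C.toCert σ X H)) ∧
      Holds σ.ker.subtype X (tau C.toCert σ X H) C.R := by
  classical
  letI := kerComm hc
  have hK : ∀ z : σ.ker, z ^ C.q = 1 := fun z => Subtype.ext (by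
    rw [SubmonoidClass.coe_pow]; exact hex _ z.2)
  let ι : σ.ker →* Γ := σ.ker.subtype
  have hι : ∀ z y, Commute (ι z) y := fun z y => (Subgroup.mem_center_iff.1 (hc z.2) y).symm
  have hιinj : Function.Injective ι := Subtype.val_injective
  have hσW : ∀ l, σ (W X l) = W g l := fun l => by rw [map_W]; simp only [hX]
  set τ := tau C.toCert σ X H with hτdef
  have hv : C.ops.Valid C.q τ (evVec τ) := vecOps_valid hK τ
  have hidx : ∀ {i j}, i < C.R.n → j < C.R.n →
      C.R.idx i j < C.R.n * C.R.n ∧ C.R.idx i j / C.R.n = i ∧ C.R.idx i j % C.R.n = j := by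
    intro i j hi hj
    refine ⟨?_, ?_, ?_⟩
    · calc i * C.R.n + j < i * C.R.n + C.R.n := by omega
        _ = (i + 1) * C.R.n := by rw [Nat.succ_mul]
        _ ≤ _ := Nat.mul_le_mul_right _ hi
    · rw [Pres.idx, Nat.mul_comm, Nat.mul_add_div (by omega), Nat.div_eq_of_lt hj, Nat.add_zero]
    · rw [Pres.idx, Nat.mul_comm, Nat.mul_add_mod, Nat.mod_eq_of_lt hj]
  have hτ : ∀ v, σ (tval C.toCert X H v) = 1 → ι (τ v) = tval C.toCert X H v := fun v hv' => by
    show ((tau C.toCert σ X H v : σ.ker) : Γ) = _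
    simp only [tau, dif_pos hv']
  have hHolds : Holds ι X τ C.R := by
    constructor
    · intro i hi
      obtain ⟨h1, h2, h3⟩ := hidx hi hi
      have e : tval C.toCert X H (C.R.idx i i) = (W X (C.R.pwWord i))⁻¹ * X i ^ C.R.p := by
        simp only [tval, if_pos h1, h2, h3, if_true]
      rw [hτ _ (by rw [e, map_mul, map_inv, hσW, map_pow, hX, hR.pow i hi, inv_mul_cancel]), e,
        mul_inv_cancel_left]
    · intro i j hij hj
      obtain ⟨h1, h2, h3⟩ := hidx (hij.trans hj) hj
      have e : tval C.toCert X H (C.R.idx i j) =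
          (W X (C.R.cjWord i j))⁻¹ * (X i)⁻¹ * (X j * X i) := by
        simp only [tval, if_pos h1, h2, h3, if_neg hij.ne]
      rw [hτ _ (by
        rw [e, map_mul, map_mul, map_inv, map_inv, hσW, map_mul, hX, hX, hR.conj i j hij hj]; group), e]
      group
  have hUu : ∀ q ps (rs : List (List ℕ × List ℕ)), ((ps, rs), q) ∈ C.fus.zipIdx → ∀ k, k < ps.length → k < 32 →
      H q * W X (ps.getD k ([], [])).1 * (H q)⁻¹ =
        W X (ps.getD k ([], [])).2 * ι (τ (C.toCert.uIdx q k)) := by
    intro q ps rs hmem k hk hk32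
    have hget : C.fus[q]? = some (ps, rs) := List.mem_zipIdx_iff_getElem?.1 hmem
    have e : tval C.toCert X H (C.toCert.uIdx q k) =
        (W X (ps.getD k ([], [])).2)⁻¹ * (H q * W X (ps.getD k ([], [])).1 * (H q)⁻¹) := by
      have h1 : ¬ C.toCert.uIdx q k < C.R.n * C.R.n := by simp only [Cert.uIdx]; omega
      have h2 : (C.toCert.uIdx q k - C.R.n * C.R.n) / 32 = q := by simp only [Cert.uIdx]; omega
      have h3 : (C.toCert.uIdx q k - C.R.n * C.R.n) % 32 = k := by simp only [Cert.uIdx]; omega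
      simp only [tval, if_neg h1, h2, h3]
      rw [List.getD_eq_getElem?_getD (l := C.fus), hget]
      rfl
    have hab : ps.getD k ([], []) ∈ ps := by
      rw [List.getD_eq_getElem _ _ hk]; exact List.getElem_mem hk
    have hG := hR.fus _ hmem _ hab
    rw [hτ _ (by
      rw [e, map_mul, map_mul, map_mul, map_inv, map_inv, hσW, hσW, hH, hG]; group), e, mul_inv_cancel_left]
  have hdiff : ∀ a b, U τ a = U τ b → evVec τ (C.mdiff a b) = 1 := by
    intro a b e
    rw [ModCert.mdiff, hv.ev_add, hv.ev_smul, hv.ev_tot, hv.ev_tot, e, ← pow_succ',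
      Nat.sub_add_cancel hp, hK]
  refine ⟨fun f hf => ?_, hv, hHolds⟩
  rcases List.mem_append.1 hf with hf | hf
  · obtain ⟨⟨a, b, c⟩, -, e⟩ := List.mem_map.1 hf
    simp only [ModCert.overEq] at e
    split at e
    next vL fL vb fb eL eb =>
      split at e
      next vR fR eR =>
        split_ifs at e with hvv
        obtain rfl := Option.some.inj e
        subst hvv
        refine hdiff _ _ (hιinj (mul_left_cancel (a := W X (toWord 0 vL)) ?_))
        have e1 := collectW_spec hι hHolds eL
        have e2 := collectW_spec hι hHolds eb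
        have e3 := collectW_spec hι hHolds eR
        rw [← e1, U_append, map_mul, W_append, W_append, e2, (hι (U τ fb) (ι (U τ fR))).eq,
          ← mul_assoc (W X (toWord 0 vL)), ← e3, W_append, W_append]
        simp only [mul_assoc]
        rw [(hι (U τ fb) (W X c)).eq]
      next => cases e
    next => cases e
  · obtain ⟨⟨⟨ps, rs⟩, q⟩, hqp, hm⟩ := List.mem_flatMap.1 hf
    obtain ⟨⟨r, r'⟩, -, e⟩ := List.mem_map.1 hm
    simp only [ModCert.fusEq] at e
    split_ifs at e with hr
    split at e
    next va fa vb fb ea eb =>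
      split_ifs at e with hv0
      obtain rfl := Option.some.inj e
      refine hdiff _ _ (hιinj ?_)
      have e1 := collectW_spec hι hHolds ea
      have e2 := collectW_spec hι hHolds eb
      rw [hv0.1, W_nil, one_mul] at e1
      rw [hv0.2, W_nil, one_mul] at e2
      have hk : ∀ k ∈ r, k < ps.length ∧ k < 32 := fun k hk => by
        have := of_decide_eq_true (List.all_eq_true.1 hr.1 k hk)
        exact ⟨this, lt_of_lt_of_le this hr.2⟩
      have hconj : ∀ l : List ℕ, (∀ k ∈ l, k < ps.length ∧ k < 32) →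
          H q * W X (l.flatMap fun k => (ps.getD k ([], [])).1) * (H q)⁻¹ =
            W X (l.flatMap fun k => (ps.getD k ([], [])).2) * ι (U τ (l.map (C.toCert.uIdx q))) := by
        intro l hl
        induction l with
        | nil => simp [W, U]
        | cons k l ih =>
          obtain ⟨h1, h2⟩ := hl k (by simp)
          have h3 := hUu q ps rs hqp k h1 h2
          have h4 := ih fun j hj => hl j (List.mem_cons_of_mem _ hj)
          rw [List.flatMap_cons, List.flatMap_cons, W_append, W_append, List.map_cons, U_cons, map_mul]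
          calc _ = (H q * W X (ps.getD k ([], [])).1 * (H q)⁻¹) *
                (H q * W X (l.flatMap fun k => (ps.getD k ([], [])).1) * (H q)⁻¹) := by group
            _ = _ := by
              rw [h3, h4]
              simp only [mul_assoc, (hι (τ (C.toCert.uIdx q k)) (W X (l.flatMap fun k => (ps.getD k ([], [])).2))).left_comm]
      have e3 := hconj r hk
      rw [e1, e2, ← map_mul, ← U_append, ← (hι _ (H q)).eq, mul_inv_cancel_right] at e3
      exact e3
    next => cases e

theorem checked {C : ModCert} (hC : C.check = true) {K : Type*} [CommGroup K] (τ : ℕ → K)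
    (hv : C.ops.Valid C.q τ (evVec τ)) (he : ∀ f, some f ∈ C.eqs → evVec τ f = 1) :
    evVec τ C.v0 ^ C.e0 = 1 ∧
      (evVec τ C.v0 = 1 → ∀ i j, i ≤ j → j < C.R.n → evVec τ (C.ruleForm (i, j)) = 1) := by
  simp only [ModCert.check, Bool.and_eq_true, hv.holdAll_eq] at hC
  obtain ⟨-, hcomb, htors⟩ := hC
  have hall : ∀ f ∈ C.eqs.filterMap id, evVec τ f = 1 := fun f hf => he f (by
    simpa [List.mem_filterMap] using hf)
  constructor
  · have := hv.ev_isZero _ htors
    rwa [hv.ev_add, hv.ev_comb _ _ hall, mul_one, hv.ev_smul] at this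
  · intro h0 i j hij hj
    have hmem : (i, j) ∈ C.toCert.rules := List.mem_flatMap.2 ⟨i, List.mem_range.2 (by omega),
      List.mem_map.2 ⟨j, List.mem_range'_1.2 ⟨hij, by omega⟩, rfl⟩⟩
    obtain ⟨k, hk, ek⟩ := List.getElem_of_mem hmem
    have := hv.ev_isZero _ (List.all_eq_true.1 hcomb k (List.mem_range.2 hk))
    rwa [hv.ev_add, List.getD_eq_getElem _ _ hk, ek, hv.ev_comb _ _ (by
      rintro f hf
      rcases List.mem_cons.1 hf with rfl | hf
      exacts [h0, hall f hf]), mul_one] at this

/-- The Sylow subgroup splits if the value of `v0` is trivial. -/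
theorem split_of_zero {C : ModCert} (hq : 0 < C.q) (hp : C.R.p.Prime) (hc : σ.ker ≤ Subgroup.center Γ)
    (hσ : Function.Surjective σ) (hex : ∀ z, σ z = 1 → z ^ C.q = 1) (hC : C.check = true)
    {g h : ℕ → G} (hR : C.toCert.Real g h) (X H : ℕ → Γ)
    (hX : ∀ i, σ (X i) = g i) (hH : ∀ i, σ (H i) = h i)
    (h0 : letI := kerComm hc; evVec (tau C.toCert σ X H) C.v0 = 1)
    (hN : (Nat.card G).factorization C.R.p = C.R.n) {p : ℕ} [Fact p.Prime] (hpp : C.R.p = p)
    (P : Sylow p Γ) : ⁅(P : Subgroup Γ), (P : Subgroup Γ)⁆ ⊓ σ.ker = ⊥ := by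
  classical
  subst hpp
  letI := kerComm hc
  obtain ⟨he, hv, hHolds⟩ := facts hq hc hex hR X H hX hH
  set τ := tau C.toCert σ X H
  have hK : ∀ z : σ.ker, z ^ C.q = 1 := fun z => Subtype.ext (by
    rw [SubmonoidClass.coe_pow]; exact hex _ z.2)
  let ι : σ.ker →* Γ := σ.ker.subtype
  have hι : ∀ z y, Commute (ι z) y := fun z y => (Subgroup.mem_center_iff.1 (hc z.2) y).symm
  have hrule := (checked hC τ hv he).2 h0
  have hdiff : ∀ a b, evVec τ (C.mdiff a b) = 1 → U τ a = U τ b := by
    intro a b e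
    rw [ModCert.mdiff, hv.ev_add, hv.ev_smul, hv.ev_tot, hv.ev_tot] at e
    have h2 : U τ b ^ (C.q - 1) * U τ b = 1 := by rw [← pow_succ, Nat.sub_add_cancel hq, hK]
    calc U τ a = U τ a * (U τ b ^ (C.q - 1) * U τ b) := by rw [h2, mul_one]
      _ = U τ b := by rw [← mul_assoc, e, one_mul]
  let c : ℕ → σ.ker := fun i => U τ (C.shift.getD i [])
  let Y : ℕ → Γ := fun i => X i * ι (c i)
  have hc' : ∀ l, (l.map c).prod = U τ (C.toCert.shiftW l) := fun l => (U_flatMap τ _ l).symm
  have hrep : ∀ (l : List ℕ) (k : ℕ), U τ (List.replicate k l).flatten = U τ l ^ k := by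
    intro l k
    induction k with
    | zero => simp [U]
    | succ k ih => rw [List.replicate_succ, List.flatten_cons, U_append, ih, pow_succ']
  have hY1 : ∀ i < C.R.n, Y i ^ C.R.p = W Y (C.R.pwWord i) := by
    intro i hi
    have e := hrule i i le_rfl hi
    simp only [ModCert.ruleForm, if_true] at e
    have e := hdiff _ _ e
    rw [U_cons, hrep] at e
    show (X i * ι (c i)) ^ C.R.p = W (fun i => X i * ι (c i)) _
    rw [(hι (c i) (X i)).symm.mul_pow, ← map_pow, hHolds.pow i hi, mul_assoc, ← map_mul,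
      W_shift ι hι, hc']
    exact congrArg (fun z => W X (C.R.pwWord i) * ι z) e
  have hY2 : ∀ i j, i < j → j < C.R.n → Y j * Y i = Y i * W Y (C.R.cjWord i j) := by
    intro i j hij hj
    have e := hrule i j hij.le hj
    simp only [ModCert.ruleForm, if_neg hij.ne] at e
    have e := hdiff _ _ e
    rw [U_cons] at e
    show X j * ι (c j) * (X i * ι (c i)) = X i * ι (c i) * W (fun i => X i * ι (c i)) _
    rw [W_shift ι hι, hc', ← e, map_mul, (hι (c j) (X i)).mul_mul_mul_comm, hHolds.conj i j hij hj]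
    simp only [mul_assoc]
    rw [(hι (c i) (W X (C.R.cjWord i j))).left_comm]
    simp only [← map_mul, c]
    rw [show σ.ker.subtype (τ (C.R.idx i j)) = ι (τ (C.R.idx i j)) from rfl, ← map_mul]
    congr 3
    rw [mul_comm (U τ (C.shift.getD j [])), mul_left_comm]
  have hYimg : σ '' (Y '' Set.Ico 0 C.R.n) = g '' Set.Ico 0 C.R.n := by
    rw [Set.image_image]
    refine Set.image_congr fun i _ => ?_
    show σ (X i * ι (c i)) = g i
    rw [map_mul, hX, show σ (ι (c i)) = 1 from (c i).2, mul_one]
  refine Cfsg.Agent.Lib.J3.Lift.split_of_card σ hc hσ (Subgroup.closure (Y '' Set.Ico 0 C.R.n)) ?_ ?_ hN P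
  · have := card_closure_le hp.pos hY1 hY2 hR.mem C.R.n le_rfl
    rwa [Nat.sub_self] at this
  · rw [MonoidHom.map_closure, hYimg]
    have := le_card_closure hp hR C.R.n le_rfl
    rwa [Nat.sub_self] at this

/-- The derived group of a Sylow subgroup meets the kernel in a cyclic group of order dividing `e0`. -/
theorem bound {C : ModCert} (hq : 0 < C.q) (hp : C.R.p.Prime) (hc : σ.ker ≤ Subgroup.center Γ)
    (hσ : Function.Surjective σ) (hex : ∀ z, σ z = 1 → z ^ C.q = 1) (hC : C.check = true)
    {g h : ℕ → G} (hR : C.toCert.Real g h) (hN : (Nat.card G).factorization C.R.p = C.R.n) :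
    ∃ z₀ ∈ σ.ker, z₀ ^ C.e0 = 1 ∧ ∀ {p : ℕ} [Fact p.Prime], C.R.p = p → ∀ P : Sylow p Γ,
      ⁅(P : Subgroup Γ), (P : Subgroup Γ)⁆ ⊓ σ.ker ≤ Subgroup.zpowers z₀ := by
  classical
  choose X hX using fun i => hσ (g i)
  choose H hH using fun i => hσ (h i)
  letI := kerComm hc
  obtain ⟨he, hv, -⟩ := facts hq hc hex hR X H hX hH
  set τ := tau C.toCert σ X H
  set z := evVec τ C.v0
  refine ⟨z, z.2, ?_, ?_⟩
  · rw [← SubmonoidClass.coe_pow, (checked hC τ hv he).1]; rfl
  intro p _ hpp P
  set N : Subgroup Γ := Subgroup.zpowers (z : Γ)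
  have hNk : N ≤ σ.ker := Subgroup.zpowers_le.2 z.2
  haveI : N.Normal := ⟨fun n hn g => by
    rw [Subgroup.mem_center_iff.1 (hc (hNk hn)) g, mul_inv_cancel_right]; exact hn⟩
  let π : Γ →* Γ ⧸ N := QuotientGroup.mk' N
  have hπ : Function.Surjective π := QuotientGroup.mk'_surjective N
  let σ' : Γ ⧸ N →* G := QuotientGroup.lift N σ hNk
  have hσ'π : ∀ x, σ' (π x) = σ x := fun _ => rfl
  have hσ' : Function.Surjective σ' := fun y => by
    obtain ⟨x, rfl⟩ := hσ y; exact ⟨π x, rfl⟩
  have hc' : σ'.ker ≤ Subgroup.center (Γ ⧸ N) := by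
    intro x hx
    obtain ⟨x, rfl⟩ := hπ x
    refine Subgroup.mem_center_iff.2 fun y => ?_
    obtain ⟨y, rfl⟩ := hπ y
    rw [← map_mul, ← map_mul, Subgroup.mem_center_iff.1 (hc hx) y]
  have hex' : ∀ x, σ' x = 1 → x ^ C.q = 1 := by
    intro x hx
    obtain ⟨x, rfl⟩ := hπ x
    rw [← map_pow, hex x hx, map_one]
  let f : σ.ker →* σ'.ker :=
    { toFun := fun x => ⟨π x, x.2⟩
      map_one' := Subtype.ext (map_one π)
      map_mul' := fun a b => Subtype.ext (map_mul π _ _) }
  have hτ' : ∀ v, tau C.toCert σ' (fun i => π (X i)) (fun i => π (H i)) v = f (τ v) := by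
    intro v
    refine Subtype.ext ?_
    show _ = π ((τ v : σ.ker) : Γ)
    simp only [τ, tau, ← map_tval, hσ'π]
    split_ifs with h
    · rfl
    · exact (map_one π).symm
  have h0 : letI := kerComm hc'
      evVec (tau C.toCert σ' (fun i => π (X i)) (fun i => π (H i))) C.v0 = 1 := by
    letI := kerComm hc'
    rw [funext hτ', ← map_evVec f]
    exact Subtype.ext ((QuotientGroup.eq_one_iff _).2 (Subgroup.mem_zpowers _))
  have hsplit := split_of_zero hq hp hc' hσ' hex' hC hR _ _ (fun i => hX i) (fun i => hH i) h0 hN hpp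
    (P.mapSurjective hπ)
  intro x hx
  obtain ⟨hx1, hx2⟩ := Subgroup.mem_inf.1 hx
  have : π x ∈ ⁅((P.mapSurjective hπ : Sylow p (Γ ⧸ N)) : Subgroup (Γ ⧸ N)),
      ((P.mapSurjective hπ : Sylow p (Γ ⧸ N)) : Subgroup (Γ ⧸ N))⁆ ⊓ σ'.ker := by
    refine Subgroup.mem_inf.2 ⟨?_, hx2⟩
    rw [Sylow.coe_mapSurjective, ← Subgroup.map_commutator]
    exact Subgroup.mem_map_of_mem π hx1
  rw [hsplit, Subgroup.mem_bot] at this
  exact (QuotientGroup.eq_one_iff x).1 this

end Main

end Cfsg.Agent.M22Mult.SplitMod
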