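import Cfsg.Agent.Lib.M22Mult.CoresCover
import Cfsg.Agent.Lib.Golay.TabList
import Cfsg.Agent.Lib.Golay.M22TwoBlock

/-!
# Cover data from tables of permutations of the 24 points

Everything the kernel evaluates is a natural number or a Boolean.
-/

set_option autoImplicit false
set_option maxRecDepth 20000

namespace Cfsg.Agent.M22Mult

open Cfsg Cfsg.Agent.Golay.Basic Cfsg.Agent.Golay.M24 Cfsg.Agent.Golay.Cert Cfsg.Agent.Golay.TabList
open scoped Pointwise

/-- A field of width `w` of a packed number. -/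
def fld (w P i : ℕ) : ℕ := (P >>> (w * i)) % 2 ^ w

/-- The tables. -/
structure Tabs where
  N : ℕ
  m : ℕ
  q : ℕ
  L : ℕ
  R : ℕ
  A : ℕ
  B : ℕ
  F : ℕ
  M : ℕ
  m1 : ℕ
  m2 : ℕ
  a : ℕ
  b : ℕ
  gens : List ℕ

namespace Tabs

variable (T : Tabs)

/-- An element of the subgroup. -/
def lAt (u : ℕ) : ℕ := fld 120 T.L u
/-- A representative. -/
def rAt (i : ℕ) : ℕ := fld 120 T.R i
/-- The product. -/
def mAt (u v : ℕ) : ℕ := fld 7 T.M (T.N * u + v)
/-- The cocycle. -/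
def fAt (u v : ℕ) : ℕ := fld 2 T.F (T.N * u + v)
/-- The image of a coset. -/
def jOf (X i : ℕ) : ℕ := fld 20 X i / T.N
/-- The component. -/
def kOf (X i : ℕ) : ℕ := fld 20 X i % T.N

/-- A table of an element of the group. -/
def inG (t : ℕ) : Bool := tabOK t && tabAt t 0 == 0 && tabAt t 23 == 23

/-- A check of everything below a bound. -/
def allBelow (p : ℕ → Bool) : ℕ → Bool
  | 0 => true
  | n + 1 => p n && allBelow p n

/-- The code of an unordered pair. -/
def pairCode (u v : ℕ) : ℕ := min u v * 16777216 + max u v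

/-- The key of a table. -/
def keyOf (t : ℕ) : ℕ := pairCode (imgTab t T.m1) (imgTab t T.m2)

/-- The elements. -/
def elemsOK : Bool :=
  decide (0 < T.N) && T.lAt 0 == idTab && decide (T.m1 < 16777216) && decide (T.m2 < 16777216) &&
    allBelow (fun u => inG (T.lAt u) && canon (T.lAt u) &&
      T.keyOf (T.lAt u) == pairCode T.m1 T.m2 &&
      allBelow (fun v => !(T.lAt u == T.lAt v)) u) T.N

/-- A row of the product. -/
def mulOK (u : ℕ) : Bool :=
  allBelow (fun v => decide (T.mAt u v < T.N) &&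
    mulTab (T.lAt u) (T.lAt v) == T.lAt (T.mAt u v)) T.N

/-- The defect of associativity at a triple. -/
def deltaOK (g h k : ℕ) : Bool :=
  (T.fAt g h + T.fAt (T.mAt g h) k) % T.q == (T.fAt h k + T.fAt g (T.mAt h k)) % T.q

/-- The cocycle. -/
def cocOK : Bool :=
  allBelow (fun u => T.fAt 0 u == 0 && T.fAt u 0 == 0) T.N &&
    (T.gens.all fun g => decide (g < T.N) &&
      allBelow (fun h => allBelow (fun k => T.deltaOK g h k) T.N) T.N) &&
    allBelow (fun u => u == 0 || T.gens.any fun g => allBelow' (fun w => !(T.mAt g w == u)) u) T.N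
where
  /-- Some number below a bound fails. -/
  allBelow' (p : ℕ → Bool) : ℕ → Bool
    | 0 => false
    | n + 1 => !p n || allBelow' p n

/-- The two elements. -/
def pairOK : Bool :=
  decide (T.a < T.N) && decide (T.b < T.N) && T.mAt T.a T.b == T.mAt T.b T.a

theorem allBelow_spec {p : ℕ → Bool} : ∀ {n : ℕ}, allBelow p n = true → ∀ i < n, p i = true
  | 0, _, i, h => absurd h (Nat.not_lt_zero i)
  | n + 1, h, i, hi => by
    simp only [allBelow, Bool.and_eq_true] at h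
    rcases Nat.lt_succ_iff_lt_or_eq.1 hi with hi | rfl
    · exact allBelow_spec h.2 i hi
    · exact h.1

/-- One coset. -/
def cosetsOK (i : ℕ) : Bool :=
    inG (T.rAt i) &&
    decide (T.jOf T.A i < T.m) && decide (T.jOf T.B i < T.m) &&
    mulTab (T.lAt T.a) (T.rAt i) == mulTab (T.rAt (T.jOf T.A i)) (T.lAt (T.kOf T.A i)) &&
    mulTab (T.lAt T.b) (T.rAt i) == mulTab (T.rAt (T.jOf T.B i)) (T.lAt (T.kOf T.B i)) &&
    (i == 0 || decide (T.keyOf (T.rAt (i - 1)) < T.keyOf (T.rAt i)))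

/-- The cosets from `c` on. -/
def cosetsRange (c n : ℕ) : Bool := allBelow (fun d => T.cosetsOK (c + d)) n

theorem cosetsRange_spec {c n : ℕ} (h : T.cosetsRange c n = true) {i : ℕ} (h1 : c ≤ i) (h2 : i < c + n) :
    T.cosetsOK i = true := by
  have := allBelow_spec h (i - c) (by omega)
  rwa [Nat.add_sub_cancel' h1] at this

/-- The sum of the commutators over the cosets. -/
def total : ℕ → ℕ
  | 0 => 0
  | i + 1 =>
    (total i + T.fAt (T.kOf T.A (T.jOf T.B i)) (T.kOf T.B i) +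
      (T.q - T.fAt (T.kOf T.B (T.jOf T.A i)) (T.kOf T.A i) % T.q)) % T.q

theorem allBelow'_spec {p : ℕ → Bool} : ∀ {n : ℕ}, cocOK.allBelow' p n = true → ∃ i < n, p i = false
  | 0, h => by simp [cocOK.allBelow'] at h
  | n + 1, h => by
    simp only [cocOK.allBelow', Bool.or_eq_true, Bool.not_eq_true'] at h
    rcases h with h | h
    · exact ⟨n, Nat.lt_succ_self n, h⟩
    · obtain ⟨i, hi, e⟩ := allBelow'_spec h
      exact ⟨i, hi.trans (Nat.lt_succ_self n), e⟩

theorem mem_of_inG {t : ℕ} (h : inG t = true) : tabPerm t ∈ Spor.M22 := by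
  simp only [inG, Bool.and_eq_true, beq_iff_eq] at h
  obtain ⟨⟨h1, h2⟩, h3⟩ := h
  have hfix : ∀ i < 24, tabAt t i = i → tabPerm t (pt i) = pt i := fun i hi e =>
    ix_injective (by rw [isTab_tabPerm h1, ix_pt hi, e])
  refine Subgroup.mem_inf.2 ⟨Subgroup.mem_inf.2 ⟨tabPerm_mem h1, ?_⟩, ?_⟩ <;> rw [MulAction.mem_stabilizer_iff, Equiv.Perm.smul_def]
  · rw [show (none : GolayPt) = pt 23 by decide +kernel]; exact hfix 23 (by norm_num) h3
  · rw [show (some 0 : GolayPt) = pt 0 by decide +kernel]; exact hfix 0 (by norm_num) h2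

/-- The element of a table. -/
noncomputable def gel (t : ℕ) : ↥Spor.M22 :=
  if h : inG t = true then ⟨tabPerm t, mem_of_inG h⟩ else 1

theorem isTab_gel {t : ℕ} (h : inG t = true) : IsTab t ((gel t : ↥Spor.M22) : Equiv.Perm GolayPt) := by
  rw [gel, dif_pos h]
  simp only [inG, Bool.and_eq_true] at h
  exact isTab_tabPerm h.1.1

theorem gel_mul {s t u v : ℕ} (hs : inG s = true) (ht : inG t = true) (hu : inG u = true)
    (hv : inG v = true) (e : mulTab s t = mulTab u v) : gel s * gel t = gel u * gel v := by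
  refine Subtype.ext ((isTab_mul (isTab_gel hs) (isTab_gel ht)).unique ?_)
  rw [e]; exact isTab_mul (isTab_gel hu) (isTab_gel hv)

/-- The key of an element. -/
noncomputable def key (g : ↥Spor.M22) : ℕ :=
  pairCode (mask ((g : Equiv.Perm GolayPt) • maskSet T.m1)) (mask ((g : Equiv.Perm GolayPt) • maskSet T.m2))

theorem pairCode_inj {u v u' v' : ℕ} (hu : u < 16777216) (hv : v < 16777216) (hu' : u' < 16777216)
    (hv' : v' < 16777216) (h : pairCode u v = pairCode u' v') :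
    (u = u' ∧ v = v') ∨ (u = v' ∧ v = u') := by
  simp only [pairCode] at h
  rcases le_total u v with h1 | h1 <;> rcases le_total u' v' with h2 | h2 <;>
    simp only [h1, h2, min_eq_left, min_eq_right, max_eq_left, max_eq_right] at h <;> omega

/-- The data. -/
noncomputable def data {N m : ℕ} (hN : 0 < N) (hm : ∀ u v, T.mAt u v % N < N)
    (hj : ∀ X i, T.jOf X i % (m + 1) < m + 1) : CoverData ↥Spor.M22 (ZMod T.q) where
  N := N
  m := m + 1
  hN := hN
  el u := gel (T.lAt u)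
  M u v := ⟨T.mAt u v % N, hm u v⟩
  F u v := (T.fAt u v : ZMod T.q)
  R i := gel (T.rAt i)
  a := ⟨T.a % N, Nat.mod_lt _ hN⟩
  b := ⟨T.b % N, Nat.mod_lt _ hN⟩
  ja i := ⟨T.jOf T.A i % (m + 1), hj _ i⟩
  ka i := ⟨T.kOf T.A i % N, Nat.mod_lt _ hN⟩
  jb i := ⟨T.jOf T.B i % (m + 1), hj _ i⟩
  kb i := ⟨T.kOf T.B i % N, Nat.mod_lt _ hN⟩

theorem sum_total (hq : 0 < T.q) : ∀ n : ℕ, (T.total n : ZMod T.q) = ∑ i ∈ Finset.range n,
    ((T.fAt (T.kOf T.A (T.jOf T.B i)) (T.kOf T.B i) : ZMod T.q) -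
      (T.fAt (T.kOf T.B (T.jOf T.A i)) (T.kOf T.A i) : ZMod T.q))
  | 0 => by simp [total]
  | n + 1 => by
    rw [total, Finset.sum_range_succ, ← sum_total hq n, ZMod.natCast_mod, Nat.cast_add, Nat.cast_add,
      Nat.cast_sub (Nat.mod_lt _ hq).le, ZMod.natCast_self, ZMod.natCast_mod]
    ring

/-- The stem extension given by checked tables. -/
theorem exists_stem (hperf : commutator ↥Spor.M22 = ⊤) (hcard : Nat.card ↥Spor.M22 = T.N * T.m)
    (he : T.elemsOK = true) (hmul : allBelow T.mulOK T.N = true) (hc : T.cocOK = true)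
    (hp : T.pairOK = true) (hcos : ∀ i < T.m, T.cosetsOK i = true)
    {z : ℕ} (hz : T.total T.m = z) (hgen : z.Coprime T.q) [NeZero T.q] :
    ∃ (X : Type) (_ : Group X) (_ : Finite X) (σ : X →* ↥Spor.M22),
      Cfsg.IsStemExtension σ ∧ Nonempty (σ.ker ≃* Multiplicative (ZMod T.q)) := by
  simp only [elemsOK, Bool.and_eq_true, decide_eq_true_eq, beq_iff_eq] at he
  obtain ⟨⟨⟨⟨hN, h0⟩, hm1⟩, hm2⟩, hel⟩ := he
  have hel' : ∀ u < T.N, inG (T.lAt u) = true ∧ canon (T.lAt u) = true ∧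
      T.keyOf (T.lAt u) = pairCode T.m1 T.m2 ∧ ∀ v < u, T.lAt u ≠ T.lAt v := by
    intro u hu
    have := allBelow_spec hel u hu
    simp only [Bool.and_eq_true, beq_iff_eq] at this
    exact ⟨this.1.1.1, this.1.1.2, this.1.2, fun v hv => by
      have h := allBelow_spec this.2 v hv; simpa using h⟩
  have hM' : ∀ u < T.N, ∀ v < T.N, T.mAt u v < T.N ∧
      mulTab (T.lAt u) (T.lAt v) = T.lAt (T.mAt u v) := by
    intro u hu v hv
    have := allBelow_spec (allBelow_spec hmul u hu) v hv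
    simpa only [Bool.and_eq_true, decide_eq_true_eq, beq_iff_eq] using this
  have hC : ∀ i < T.m, inG (T.rAt i) = true ∧ T.jOf T.A i < T.m ∧ T.jOf T.B i < T.m ∧
      mulTab (T.lAt T.a) (T.rAt i) = mulTab (T.rAt (T.jOf T.A i)) (T.lAt (T.kOf T.A i)) ∧
      mulTab (T.lAt T.b) (T.rAt i) = mulTab (T.rAt (T.jOf T.B i)) (T.lAt (T.kOf T.B i)) ∧
      (i = 0 ∨ T.keyOf (T.rAt (i - 1)) < T.keyOf (T.rAt i)) := by
    intro i hi
    have := hcos i hi
    simp only [cosetsOK, Bool.and_eq_true, decide_eq_true_eq, beq_iff_eq, Bool.or_eq_true] at this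
    obtain ⟨⟨⟨⟨⟨x1, x2⟩, x3⟩, x4⟩, x5⟩, x6⟩ := this
    exact ⟨x1, x2, x3, x4, x5, x6⟩
  simp only [pairOK, Bool.and_eq_true, decide_eq_true_eq, beq_iff_eq] at hp
  obtain ⟨⟨ha, hb⟩, hab⟩ := hp
  have hm0 : 0 < T.m := by
    rcases Nat.eq_zero_or_pos T.m with h | h
    · rw [h, mul_zero] at hcard
      exact absurd hcard Nat.card_pos.ne'
    · exact h
  obtain ⟨m, hm⟩ := Nat.exists_eq_succ_of_ne_zero hm0.ne'
  have hlt : ∀ {i : ℕ}, i < m + 1 → i < T.m := fun h => by omega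
  let D := T.data (N := T.N) (m := m) hN (fun _ _ => Nat.mod_lt _ hN) (fun _ _ => Nat.mod_lt _ m.succ_pos)
  simp only [cocOK, Bool.and_eq_true, List.all_eq_true, decide_eq_true_eq] at hc
  obtain ⟨⟨hF0, hG⟩, hdec⟩ := hc
  have hkeytab : ∀ {t : ℕ} {g : ↥Spor.M22}, IsTab t (g : Equiv.Perm GolayPt) → T.key g = T.keyOf t := by
    intro t g hg
    rw [key, keyOf, ← imgTab_mask hg, ← imgTab_mask hg, mask_maskSet hm1, mask_maskSet hm2]
  have hkey : ∀ (g : ↥Spor.M22) (u : Fin T.N), T.key (g * gel (T.lAt u)) = T.key g := by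
    intro g u
    obtain ⟨hu, -, hk, -⟩ := hel' u u.2
    have e := (hkeytab (isTab_gel hu)).trans hk
    simp only [key, Subgroup.coe_mul, mul_smul] at e ⊢
    rcases pairCode_inj (mask_lt _) (mask_lt _) hm1 hm2 e with ⟨e1, e2⟩ | ⟨e1, e2⟩
    · rw [(eq_maskSet_iff hm1).2 e1, (eq_maskSet_iff hm2).2 e2]
    · rw [(eq_maskSet_iff hm2).2 e1, (eq_maskSet_iff hm1).2 e2, pairCode, pairCode, min_comm, max_comm]
  have hmod : ∀ {i}, i < T.m → i % (m + 1) = i := fun h => Nat.mod_eq_of_lt (by omega)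
  have hkk : ∀ (X i), T.kOf X i % T.N = T.kOf X i := fun X i => Nat.mod_mod _ _
  refine Cfsg.Agent.M22Mult.exists_stem D hperf (fun u v => ?_) (fun u v h => ?_) ?_ (fun u => ?_)
    (T.gens.attach.map fun g => ⟨g.1, (hG g.1 g.2).1⟩) ?_ (fun u => ?_) ?_ (T.key) hkey ?_
    (fun i => ?_) (fun i => ?_) ?_ (z := (z : ZMod T.q)) ?_ ?_
  · obtain ⟨h1, h2⟩ := hM' u u.2 v v.2
    have hu := (hel' u u.2).1
    have hv := (hel' v v.2).1
    have hw := (hel' _ h1).1
    show gel (T.lAt u) * gel (T.lAt v) = gel (T.lAt (T.mAt u v % T.N))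
    rw [Nat.mod_eq_of_lt h1]
    refine Subtype.ext ((isTab_mul (isTab_gel hu) (isTab_gel hv)).unique ?_)
    rw [h2]; exact isTab_gel hw
  · have e := eq_of_isTab (hel' u u.2).2.1 (hel' v v.2).2.1 (isTab_gel (hel' u u.2).1)
      (by rw [show gel (T.lAt u) = gel (T.lAt v) from h]; exact isTab_gel (hel' v v.2).1)
    rcases lt_trichotomy u.1 v.1 with hl | hl | hl
    · exact absurd e.symm ((hel' v v.2).2.2.2 u hl)
    · exact Fin.ext hl
    · exact absurd e ((hel' u u.2).2.2.2 v hl)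
  · show gel (T.lAt 0) = 1
    rw [h0]
    exact Subtype.ext ((isTab_gel (h0 ▸ (hel' 0 hN).1)).unique isTab_one)
  · have := allBelow_spec hF0 u u.2
    simp only [Bool.and_eq_true, beq_iff_eq] at this
    show (T.fAt 0 u : ZMod T.q) = 0 ∧ (T.fAt u 0 : ZMod T.q) = 0
    rw [this.1, this.2]
    simp
  · intro g hg h k
    obtain ⟨⟨g, hg'⟩, -, rfl⟩ := List.mem_map.1 hg
    obtain ⟨hgN, hgc⟩ := hG g hg'
    have := allBelow_spec (allBelow_spec hgc h h.2) k k.2
    simp only [deltaOK, beq_iff_eq] at this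
    have e := (ZMod.natCast_eq_natCast_iff' _ _ _).2 this
    show (T.fAt g h : ZMod T.q) + (T.fAt (T.mAt g h % T.N) k : ZMod T.q) - (T.fAt h k : ZMod T.q) -
      (T.fAt g (T.mAt h k % T.N) : ZMod T.q) = 0
    rw [Nat.mod_eq_of_lt (hM' g hgN h h.2).1, Nat.mod_eq_of_lt (hM' h h.2 k k.2).1, sub_sub, sub_eq_zero]
    exact_mod_cast e
  · rcases Bool.or_eq_true_iff.1 (allBelow_spec hdec u u.2) with h | h
    · exact Or.inl (beq_iff_eq.1 h)
    · obtain ⟨g, hg, hgw⟩ := List.any_eq_true.1 h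
      obtain ⟨w, hw, e⟩ := allBelow'_spec hgw
      simp only [Bool.not_eq_false', beq_iff_eq] at e
      refine Or.inr ⟨⟨g, (hG g hg).1⟩, List.mem_map.2 ⟨⟨g, hg⟩, List.mem_attach _ _, rfl⟩,
        ⟨w, hw.trans u.2⟩, hw, Fin.ext ?_⟩
      show T.mAt g w % T.N = u
      rw [e]; exact Nat.mod_eq_of_lt u.2
  · show Nat.card ↥Spor.M22 = T.N * (m + 1)
    rw [hcard, hm]
  · have hmono : StrictMono fun i : Fin (m + 1) => T.keyOf (T.rAt i) := by
      refine Fin.strictMono_iff_lt_succ.2 fun i => ?_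
      have := (hC (i + 1) (by omega)).2.2.2.2.2
      rcases this with h | h
      · omega
      · simpa using h
    intro i j h
    refine hmono.injective ?_
    show T.keyOf _ = T.keyOf _
    rw [← hkeytab (isTab_gel (hC i (hlt i.2)).1), ← hkeytab (isTab_gel (hC j (hlt j.2)).1)]
    exact h
  · obtain ⟨hi, hj, -, hA, -, -⟩ := hC i (hlt i.2)
    show gel (T.lAt (T.a % T.N)) * gel (T.rAt i) =
      gel (T.rAt (T.jOf T.A i % (m + 1))) * gel (T.lAt (T.kOf T.A i % T.N))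
    rw [Nat.mod_eq_of_lt ha, hmod hj, hkk]
    exact gel_mul (hel' _ ha).1 hi (hC _ hj).1 (hel' _ (Nat.mod_lt _ hN)).1 hA
  · obtain ⟨hi, -, hj, -, hB, -⟩ := hC i (hlt i.2)
    show gel (T.lAt (T.b % T.N)) * gel (T.rAt i) =
      gel (T.rAt (T.jOf T.B i % (m + 1))) * gel (T.lAt (T.kOf T.B i % T.N))
    rw [Nat.mod_eq_of_lt hb, hmod hj, hkk]
    exact gel_mul (hel' _ hb).1 hi (hC _ hj).1 (hel' _ (Nat.mod_lt _ hN)).1 hB
  · refine Fin.ext ?_
    show T.mAt (T.a % T.N) (T.b % T.N) % T.N = T.mAt (T.b % T.N) (T.a % T.N) % T.N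
    rw [Nat.mod_eq_of_lt ha, Nat.mod_eq_of_lt hb, hab]
  · rw [← hz, hm, T.sum_total (NeZero.pos _), Finset.sum_range]
    refine Finset.sum_congr rfl fun i _ => ?_
    obtain ⟨-, hjA, hjB, -⟩ := hC i (hlt i.2)
    show _ = (T.fAt (T.kOf T.A (T.jOf T.B i % (m + 1)) % T.N) (T.kOf T.B i % T.N) : ZMod T.q) -
      (T.fAt (T.kOf T.B (T.jOf T.A i % (m + 1)) % T.N) (T.kOf T.A i % T.N) : ZMod T.q)
    rw [hmod hjA, hmod hjB, hkk, hkk, hkk, hkk]
  · rw [eq_top_iff]
    rintro t -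
    let u := ZMod.unitOfCoprime z hgen
    refine AddSubgroup.mem_zmultiples_iff.2 ⟨(t * (↑u⁻¹ : ZMod T.q)).val, ?_⟩
    rw [natCast_zsmul, nsmul_eq_mul, ZMod.natCast_zmod_val, mul_assoc,
      show ((z : ZMod T.q)) = (u : ZMod T.q) from rfl, Units.inv_mul, mul_one]

end Tabs

end Cfsg.Agent.M22Mult
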