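import Cfsg.Agent.Lib.M22Mult.SplitMod

/-!
Certificate for the 2-part of the multiplier of M22, with forms modulo 8: a power-commutator
presentation of a Sylow 2-subgroup, overlaps, conjugations, shifts and combinations.
-/

set_option autoImplicit false
set_option maxRecDepth 10000

namespace Cfsg.Agent.M22Mult.Upper

open Cfsg.Agent.Lib.PcMult SplitMod

/-- The certificate. -/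
def C : ModCert where
  R := { p := 2, n := 7, pw := [[0, 0, 0, 0, 1, 0, 0], [0, 0, 0, 0, 1, 0, 0], [0, 0, 0, 1, 0, 0, 0], [0, 0, 0, 0, 0, 1, 0], [0, 0, 0, 0, 0, 0, 0], [0, 0, 0, 0, 0, 0, 0], [0, 0, 0, 0, 0, 0, 0]],
         cj := [[[], [0, 1, 0, 0, 1, 0, 0], [0, 0, 1, 1, 1, 0, 0], [0, 0, 0, 1, 0, 0, 0], [0, 0, 0, 0, 1, 0, 0], [0, 0, 0, 0, 0, 1, 0], [0, 0, 0, 0, 1, 1, 1]], [[], [], [0, 0, 1, 1, 0, 0, 1], [0, 0, 0, 1, 1, 1, 0], [0, 0, 0, 0, 1, 0, 0], [0, 0, 0, 0, 0, 1, 0], [0, 0, 0, 0, 1, 0, 1]], [[], [], [], [0, 0, 0, 1, 0, 0, 0], [0, 0, 0, 0, 1, 1, 0], [0, 0, 0, 0, 0, 1, 0], [0, 0, 0, 0, 1, 1, 1]], [[], [], [], [], [0, 0, 0, 0, 1, 0, 0], [0, 0, 0, 0, 0, 1, 0], [0, 0, 0, 0, 0, 1, 1]], [[], [], [], [], [],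 [0, 0, 0, 0, 0, 1, 0], [0, 0, 0, 0, 0, 0, 1]], [[], [], [], [], [], [], [0, 0, 0, 0, 0, 0, 1]], [[], [], [], [], [], [], []]] }
  ovl := [([0], [0, 0], []), ([1], [0, 0], []), ([1], [1, 1], []), ([2], [0, 0], []), ([2], [1, 0], []), ([2], [1, 1], []), ([2], [2, 0], []), ([2], [2, 1], []), ([2], [2, 2], []), ([3], [0, 0], []), ([3], [1, 0], []), ([3], [1, 1], []), ([3], [2, 0], []), ([3], [2, 1], []), ([3], [3, 0], []), ([3], [3, 1], []), ([3], [3, 2], []), ([3], [3, 3], []), ([4], [2, 1], []), ([4], [2, 2], []), ([5], [2, 1], []), ([6], [1, 1], [])]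
  fus := [([([0, 1, 2, 3, 5], [0, 1, 2, 3]), ([1, 3], [1, 4, 6]), ([3, 4, 5], [0, 2, 6]), ([4, 5], [3, 5, 6]), ([5], [5]), ([6], [0, 2, 3, 4, 5])], [([0, 0, 5, 2, 2, 2], []), ([1, 1], []), ([2, 2, 4], []), ([3, 3], []), ([4, 4], []), ([1, 0, 5, 4, 2, 2, 2, 1, 0, 0, 0], []), ([2, 0, 3, 2, 2, 2, 0, 0, 0], [])]), ([([0, 1, 3, 5], [0, 1, 3, 4]), ([1, 3], [1, 3]), ([3, 4, 5], [0, 3, 5]), ([4, 5], [5]), ([5], [4, 5]), ([6], [0, 1, 3, 5, 6])], [([2, 2, 4], []), ([4, 4], []), ([5, 5], [])]), ([([0, 1, 3, 5], [4, 6]), ([1, 2, 5, 6], [1, 2, 5, 6]), ([4, 5], [0, 1, 3]), ([5], [5, 6]), ([6], [6])], [([0, 0], []), ([1, 1, 4], []), ([3, 3], []), ([4, 4], []), ([1, 0, 4, 3, 1, 1, 1, 0], [])]), ([([0, 1, 3, 5, 6], [3, 6]),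 ([5, 6], [1, 4, 5, 6])], [([0, 0], [])]), ([([0, 2, 3, 4, 5], [3, 6])], [([0, 0], [])]), ([([0, 2, 4, 5, 6], [1, 3, 4])], [([0, 0], [])])]
  shift := [[2, 8, 8, 8, 8, 8, 8, 8, 20, 20, 20, 20, 20, 20, 20, 24, 24, 24, 27, 27, 27, 27, 27, 48, 48, 48, 48, 48, 48, 48, 145, 145, 145, 145, 145, 145, 145, 177, 177, 177, 209], [2, 2, 2, 2, 2, 24, 24, 24, 27, 32, 32, 32, 32, 32, 48, 48, 48, 48, 48, 177, 177, 177, 209], [0, 0, 0, 0, 0, 2, 9, 9, 9, 9, 9, 16, 16, 16, 16, 16, 32, 32, 32, 32, 32, 32, 32, 40, 40, 40, 40, 40, 145, 209, 209, 209, 209, 209], [2, 2, 2, 20, 20, 20, 20, 20, 24, 24, 24, 24, 24, 40, 40, 40, 40, 40], [20, 27, 27, 27, 27, 27, 27, 27], [27], [2, 9, 20, 20, 20, 20, 20, 20, 20, 24]]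
  combs := [[5, 4, 7, 2, 4, 0, 2, 4, 0, 7, 3, 3, 2, 0, 1, 2, 6, 6, 3, 2, 3, 7, 2, 4, 4, 0, 3, 6, 4, 2, 0, 0, 0, 2, 4, 5, 3, 6, 7, 7, 5],
    [1, 1, 0, 1, 6, 0, 7, 6, 7, 3, 1, 1, 7, 0, 7, 7, 6, 7, 6, 3, 0, 7, 0, 0, 0, 0, 0, 0, 0, 0, 0, 0, 0, 0, 0, 0, 0, 0, 0, 0, 0],
    [6, 0, 5, 0, 0, 4, 4, 6, 4, 2, 6, 5, 7, 5, 0, 7, 3, 2, 4, 4, 2, 2, 2, 4, 4, 4, 5, 0, 4, 6, 0, 0, 0, 2, 4, 5, 3, 6, 0, 0, 0],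
    [2, 6, 7, 3, 4, 4, 6, 3, 2, 3, 5, 1, 1, 0, 5, 3, 1, 5, 3, 4, 4, 7, 3, 4, 4, 4, 5, 0, 4, 6, 0, 0, 0, 2, 4, 1, 7, 6, 0, 0, 0],
    [0, 7, 0, 0, 0, 0, 0, 0, 0, 0, 0, 0, 0, 0, 0, 0, 0, 0, 0, 0, 0, 0, 0, 0, 0, 0, 0, 0, 0, 0, 0, 0, 0, 0, 0, 0, 0, 0, 0, 0, 0],
    [0, 2, 0, 4, 6, 0, 0, 6, 0, 6, 1, 0, 4, 7, 0, 7, 4, 0, 0, 0, 0, 0, 0, 0, 0, 0, 0, 0, 0, 0, 0, 0, 0, 0, 0, 0, 0, 0, 0, 0, 0],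
    [6, 2, 0, 1, 6, 1, 2, 7, 1, 0, 3, 4, 0, 5, 4, 6, 1, 5, 3, 3, 3, 3, 0, 0, 0, 0, 6, 0, 0, 4, 0, 0, 0, 6, 4, 7, 1, 2, 0, 0, 0],
    [4, 6, 6, 7, 0, 7, 2, 0, 2, 3, 3, 2, 3, 2, 0, 6, 3, 7, 4, 0, 1, 6, 6, 4, 4, 0, 1, 2, 4, 6, 4, 6, 4, 2, 4, 5, 3, 6, 0, 7, 5],
    [0, 5, 0, 0, 7, 0, 0, 3, 0, 1, 3, 0, 2, 2, 6, 0, 2, 3, 4, 0, 3, 6, 2, 0, 0, 0, 6, 0, 0, 4, 0, 0, 0, 4, 0, 6, 2, 4, 0, 0, 0],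
    [4, 1, 5, 3, 3, 6, 4, 3, 3, 2, 7, 5, 1, 4, 2, 1, 4, 5, 0, 5, 5, 4, 7, 4, 4, 4, 7, 0, 4, 2, 0, 0, 0, 0, 0, 0, 0, 0, 0, 0, 0],
    [4, 7, 6, 0, 7, 0, 0, 7, 0, 7, 5, 4, 3, 5, 0, 4, 7, 4, 1, 6, 4, 2, 6, 0, 0, 0, 0, 0, 0, 0, 0, 0, 0, 0, 0, 0, 0, 0, 0, 0, 0],
    [2, 0, 1, 0, 3, 0, 0, 3, 0, 3, 5, 4, 4, 2, 0, 4, 0, 4, 2, 3, 4, 5, 3, 0, 0, 0, 0, 0, 0, 0, 0, 0, 0, 0, 0, 0, 0, 0, 0, 0, 0],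
    [0, 1, 0, 1, 6, 0, 7, 6, 7, 3, 1, 1, 7, 0, 7, 7, 6, 7, 6, 3, 0, 7, 0, 0, 0, 0, 0, 0, 0, 0, 0, 0, 0, 0, 0, 0, 0, 0, 0, 0, 0],
    [7, 4, 6, 7, 0, 0, 6, 7, 2, 0, 3, 5, 7, 3, 0, 7, 7, 7, 7, 6, 0, 5, 7, 0, 0, 0, 6, 0, 0, 4, 4, 6, 0, 6, 4, 7, 1, 2, 5, 0, 5],
    [0, 0, 0, 0, 0, 0, 0, 0, 0, 7, 0, 0, 0, 0, 0, 0, 0, 0, 0, 0, 0, 0, 0, 0, 0, 0, 0, 0, 0, 0, 0, 0, 0, 0, 0, 0, 0, 0, 0, 0, 0],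
    [6, 7, 3, 6, 3, 0, 0, 3, 0, 5, 6, 3, 6, 0, 1, 5, 2, 5, 3, 0, 4, 7, 1, 0, 0, 0, 0, 0, 0, 0, 0, 0, 0, 0, 0, 0, 0, 0, 0, 0, 0],
    [0, 0, 0, 0, 0, 0, 0, 0, 0, 6, 0, 0, 0, 0, 0, 0, 0, 7, 0, 0, 0, 0, 0, 0, 0, 0, 0, 0, 0, 0, 0, 0, 0, 0, 0, 0, 0, 0, 0, 0, 0],
    [0, 0, 0, 0, 0, 0, 0, 0, 0, 0, 0, 0, 0, 0, 0, 0, 0, 0, 0, 0, 0, 0, 0, 0, 0, 0, 0, 0, 0, 0, 0, 0, 0, 0, 0, 0, 0, 0, 0, 0, 0],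
    [2, 0, 7, 2, 4, 4, 4, 2, 4, 0, 4, 7, 1, 0, 2, 5, 1, 7, 0, 4, 7, 0, 4, 4, 4, 4, 5, 0, 4, 6, 0, 0, 0, 2, 4, 5, 3, 6, 0, 0, 0],
    [0, 0, 0, 0, 0, 0, 0, 0, 0, 0, 0, 0, 0, 7, 0, 0, 0, 0, 0, 0, 0, 0, 0, 0, 0, 0, 0, 0, 0, 0, 0, 0, 0, 0, 0, 0, 0, 0, 0, 0, 0],
    [0, 4, 4, 2, 0, 0, 0, 0, 0, 0, 0, 0, 6, 4, 0, 0, 6, 0, 5, 4, 0, 4, 4, 0, 0, 0, 0, 0, 0, 0, 0, 0, 0, 0, 0, 0, 0, 0, 0, 0, 0],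
    [0, 0, 0, 0, 0, 0, 0, 0, 0, 0, 0, 0, 0, 0, 0, 0, 0, 0, 0, 0, 0, 0, 0, 0, 0, 0, 0, 0, 0, 0, 0, 0, 0, 0, 0, 0, 0, 0, 0, 0, 0],
    [2, 4, 5, 4, 1, 0, 2, 1, 2, 7, 1, 6, 5, 7, 2, 2, 7, 2, 5, 4, 0, 0, 2, 0, 0, 0, 0, 0, 0, 0, 0, 0, 0, 0, 0, 0, 0, 0, 0, 0, 0],
    [0, 7, 0, 0, 0, 0, 0, 0, 0, 0, 7, 1, 0, 0, 0, 7, 0, 0, 0, 0, 0, 0, 0, 0, 0, 0, 0, 0, 0, 0, 0, 0, 0, 0, 0, 0, 0, 0, 0, 0, 0],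
    [6, 1, 7, 0, 0, 0, 0, 0, 0, 0, 0, 0, 0, 0, 0, 0, 0, 0, 0, 0, 0, 0, 1, 0, 0, 0, 0, 0, 0, 0, 0, 0, 0, 0, 0, 0, 0, 0, 0, 0, 0],
    [4, 0, 6, 6, 4, 0, 0, 4, 0, 2, 2, 6, 6, 5, 6, 2, 2, 3, 4, 0, 3, 2, 6, 0, 0, 0, 0, 0, 0, 0, 0, 0, 0, 0, 0, 0, 0, 0, 0, 0, 0],
    [0, 3, 4, 2, 5, 0, 0, 5, 0, 5, 3, 4, 2, 1, 0, 4, 6, 4, 3, 0, 4, 7, 0, 0, 0, 0, 0, 0, 0, 0, 0, 0, 0, 0, 0, 0, 0, 0, 0, 0, 0],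
    [6, 6, 2, 0, 4, 6, 6, 6, 0, 4, 6, 4, 0, 0, 2, 2, 0, 2, 3, 0, 4, 7, 0, 0, 0, 0, 0, 0, 0, 0, 0, 0, 0, 6, 4, 7, 1, 2, 0, 0, 0]]
  q := 8
  v0 := [0, 7, 0, 0, 0, 0, 0, 0, 0, 0, 0, 0, 0, 1]
  e0 := 4
  tors := [1, 2, 7, 5, 0, 0, 5, 0, 5, 3, 0, 1, 3, 0, 0, 1, 0, 7, 6, 0, 2, 6, 0, 0, 0, 0, 0, 0, 0, 0, 0, 0, 0, 0, 0, 0, 0, 0, 0, 0]

/-- The tables of the conjugators. -/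
def hTabs : List ℕ := [966634667642498107854353434235409440, 980866426574216386172539615486040096, 968744398549478726297614003673806912, 973051243284374965456338887969867424, 984242338524834756951076908677208704, 969105501910816892035066589953509056]

end Cfsg.Agent.M22Mult.Upper
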